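import Groth.Agent.FinSurjLib.Extend
import Groth.Agent.NoethApproxLib.Integral
import Mathlib

/-!
# Zariski's main theorem in finitely presented form
-/

set_option autoImplicit false
set_option linter.style.haveILetI false

noncomputable section

universe u

open AlgebraicGeometry CategoryTheory Limits Opposite

namespace FinSurjLib

/-- A limit of monomorphisms into a scheme of finite type which is of finite presentation over the base is
reached at some stage. -/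
theorem exists_isIso_stage {I : Type u} [SmallCategory I] [IsCofiltered I] {S W : Scheme.{u}}
    (D : I ⥤ Scheme.{u}) (s : ∀ i, D.obj i ⟶ W) (w : ∀ {i j} (a : i ⟶ j), D.map a ≫ s j = s i)
    (tW : W ⟶ S) [LocallyOfFiniteType tW] (c : Cone D) (hc : IsLimit c)
    [∀ {i j : I} (a : i ⟶ j), IsAffineHom (D.map a)] [∀ i, CompactSpace (D.obj i)]
    [∀ i, QuasiSeparatedSpace (D.obj i)] [∀ i, Mono (s i)] (p : c.pt ⟶ S) [LocallyOfFinitePresentation p]
    (hp : ∀ i, c.π.app i ≫ s i ≫ tW = p) :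
    ∃ i, IsIso (c.π.app i) := by
  let T : D ⟶ (Functor.const I).obj S :=
    { app := fun i ↦ s i ≫ tW
      naturality := fun i j a ↦ by
        show D.map a ≫ s j ≫ tW = (s i ≫ tW) ≫ 𝟙 S
        rw [Category.comp_id, ← Category.assoc, w] }
  obtain ⟨i, r, hr1, hr2⟩ := Scheme.exists_π_app_comp_eq_of_locallyOfFinitePresentation D T p c hc (𝟙 _)
    (NatTrans.ext (funext fun i ↦ by
      show c.π.app i ≫ s i ≫ tW = 𝟙 _ ≫ p
      rw [Category.id_comp, hp]))
  have hab : c.π.app i ≫ (r ≫ c.π.app i ≫ s i) = c.π.app i ≫ s i := by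
    rw [← Category.assoc, hr1]
    exact Category.id_comp _
  obtain ⟨k, a, hk⟩ := Scheme.exists_hom_comp_eq_comp_of_locallyOfFiniteType D T tW c hc
    (r ≫ c.π.app i ≫ s i) (s i) (by
      show s i ≫ tW = _
      rw [Category.assoc, Category.assoc, hp]
      exact hr2.symm) rfl hab
  refine ⟨k, D.map a ≫ r, ?_, ?_⟩
  · rw [← Category.assoc, c.w, hr1]
    rfl
  · rw [← cancel_mono (s k), Category.id_comp]
    calc ((D.map a ≫ r) ≫ c.π.app k) ≫ s k = D.map a ≫ r ≫ c.π.app i ≫ s i := by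
          rw [Category.assoc, Category.assoc, ← c.w a, Category.assoc, w]
      _ = s k := by rw [hk, w]

/-- The scheme-theoretic image of a closed subscheme of an open subscheme meets the open in that subscheme. -/
theorem opensRange_toImage {V Z : Scheme.{u}} (W : Z.Opens) (l : V ⟶ (W : Scheme.{u})) [IsClosedImmersion l]
    [QuasiCompact W.ι] [IsOpenImmersion (l ≫ W.ι).toImage] :
    (l ≫ W.ι).toImage.opensRange = (l ≫ W.ι).imageι ⁻¹ᵁ W := by
  let κ := l ≫ W.ι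
  refine le_antisymm ?_ fun w hw => ?_
  · rintro _ ⟨x, rfl⟩
    show κ.imageι (κ.toImage x) ∈ W
    rw [← Scheme.Hom.comp_apply, Scheme.Hom.toImage_imageι]
    exact (l x).2
  · have hcl : κ.imageι w ∈ closure (Set.range κ) := by
      have h1 := (Scheme.IdealSheafData.range_subschemeι κ.ker).le (Set.mem_range_self w)
      rwa [Scheme.Hom.support_ker] at h1
    obtain ⟨x, hx⟩ : (⟨κ.imageι w, hw⟩ : (W : Scheme.{u})) ∈ Set.range l := by
      rw [← l.isClosedEmbedding.isClosed_range.closure_eq]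
      refine (Topology.IsInducing.closure_eq_preimage_closure_image W.ι.isEmbedding.isInducing _).ge ?_
      rw [Set.mem_preimage, ← Set.range_comp]
      exact hcl
    refine ⟨x, κ.imageι.isEmbedding.injective ?_⟩
    show κ.imageι (κ.toImage x) = κ.imageι w
    rw [← Scheme.Hom.comp_apply, Scheme.Hom.toImage_imageι]
    show W.ι (l x) = _
    rw [hx]
    rfl

/-- An open piece of a limit of closed subschemes which is of finite presentation is an open piece of a stage. -/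
theorem exists_open_piece {I : Type u} [SmallCategory I] [IsCofiltered I] {S Y X : Scheme.{u}}
    [QuasiSeparatedSpace Y] (E : I ⥤ Scheme.{u}) (s : ∀ i, E.obj i ⟶ Y)
    (w : ∀ {i j} (a : i ⟶ j), E.map a ≫ s j = s i) (c : Cone E) (hc : IsLimit c)
    [∀ {i j : I} (a : i ⟶ j), IsAffineHom (E.map a)] [∀ i, CompactSpace (E.obj i)]
    [∀ i, QuasiSeparatedSpace (E.obj i)] (hcl : ∀ i, IsClosedImmersion (s i)) (W : Y.Opens) (hW : IsCompact (W : Set Y))
    (tY : Y ⟶ S) [LocallyOfFiniteType tY] (q : c.pt ⟶ Y) (hq : ∀ i, c.π.app i ≫ s i = q)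
    (j : X ⟶ c.pt) (hjo : IsOpenImmersion j) (hj : j.opensRange = q ⁻¹ᵁ W) (f : X ⟶ S) [LocallyOfFinitePresentation f]
    (hf : j ≫ q ≫ tY = f) :
    ∃ (i : I) (j' : X ⟶ E.obj i), IsOpenImmersion j' ∧ QuasiCompact j' ∧ j' ≫ s i ≫ tY = f := by
  haveI := hcl
  haveI := hjo
  obtain ⟨l₁⟩ := IsCofiltered.nonempty (C := I)
  let V₁ : (E.obj l₁).Opens := s l₁ ⁻¹ᵁ W
  have hV₁ : IsCompact (V₁ : Set (E.obj l₁)) := QuasiCompact.isCompact_preimage (f := s l₁) _ W.2 hW
  let PD := opensDiagram E l₁ V₁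
  let PC := opensCone E c l₁ V₁
  haveI : ∀ k, CompactSpace (PD.obj k) := fun k ↦ isCompact_iff_compactSpace.mp
    (QuasiCompact.isCompact_preimage (f := E.map k.hom) _ V₁.2 hV₁)
  haveI : ∀ k, QuasiSeparatedSpace (PD.obj k) := fun k ↦
    (isQuasiSeparated_iff_quasiSeparatedSpace _ (E.map k.hom ⁻¹ᵁ V₁).2).mp (.of_quasiSeparatedSpace _)
  haveI : ∀ {k k' : Over l₁} (a : k ⟶ k'), IsAffineHom (PD.map a) := fun {k k'} a ↦
    isAffineHom_resLE (E.map a.left) _ (by
      show E.map k.hom ⁻¹ᵁ V₁ = E.map a.left ⁻¹ᵁ (E.map k'.hom ⁻¹ᵁ V₁)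
      conv_rhs => rw [← Scheme.Hom.comp_preimage (E.map a.left) (E.map k'.hom) V₁, ← E.map_comp, Over.w a])
  let σ : ∀ k : Over l₁, PD.obj k ⟶ (W : Scheme.{u}) := fun k ↦
    (s k.left).resLE W (E.map k.hom ⁻¹ᵁ V₁) (by
      show E.map k.hom ⁻¹ᵁ (s l₁ ⁻¹ᵁ W) ≤ _
      rw [← Scheme.Hom.comp_preimage, w])
  haveI : ∀ k, Mono (σ k) := fun k ↦ by
    haveI : Mono (σ k ≫ W.ι) := by
      show Mono ((s k.left).resLE W _ _ ≫ W.ι)
      rw [Scheme.Hom.resLE_comp_ι]
      infer_instance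
    exact mono_of_mono (σ k) W.ι
  have hpre₁ : c.π.app l₁ ⁻¹ᵁ V₁ = j.opensRange := by
    rw [hj]
    show c.π.app l₁ ⁻¹ᵁ (s l₁ ⁻¹ᵁ W) = _
    rw [← Scheme.Hom.comp_preimage, hq]
  let η : ((c.π.app l₁ ⁻¹ᵁ V₁ : c.pt.Opens) : Scheme.{u}) ≅ X :=
    c.pt.isoOfEq hpre₁ ≪≫ j.isoOpensRange.symm
  have hη : η.hom ≫ j = (c.π.app l₁ ⁻¹ᵁ V₁).ι := by
    show ((c.pt.isoOfEq hpre₁).hom ≫ j.isoOpensRange.inv) ≫ j = _
    rw [Category.assoc, Scheme.Hom.isoOpensRange_inv_comp, Scheme.isoOfEq_hom_ι]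
  obtain ⟨k, hk⟩ := exists_isIso_stage PD σ (fun {k k'} a ↦ by
      show (E.map a.left).resLE _ _ _ ≫ (s k'.left).resLE W _ _ = (s k.left).resLE W _ _
      rw [← cancel_mono W.ι, Category.assoc, Scheme.Hom.resLE_comp_ι, Scheme.Hom.resLE_comp_ι_assoc,
        Scheme.Hom.resLE_comp_ι, w])
    (W.ι ≫ tY) PC (isLimitOpensCone E c hc l₁ V₁) (η.hom ≫ f) (fun k ↦ by
      show (c.π.app k.left).resLE _ _ _ ≫ (s k.left).resLE W _ _ ≫ W.ι ≫ tY =
        (η.hom ≫ f : ((c.π.app l₁ ⁻¹ᵁ V₁ : c.pt.Opens) : Scheme.{u}) ⟶ S)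
      rw [Scheme.Hom.resLE_comp_ι_assoc, Scheme.Hom.resLE_comp_ι_assoc, reassoc_of% (hq k.left), ← hf,
        ← Category.assoc η.hom, hη])
  haveI : IsIso (PC.π.app k) := hk
  haveI : QuasiCompact (E.map k.hom ⁻¹ᵁ V₁).ι := by
    haveI : CompactSpace (E.map k.hom ⁻¹ᵁ V₁ : Scheme.{u}) :=
      isCompact_iff_compactSpace.mp (QuasiCompact.isCompact_preimage (f := E.map k.hom) _ V₁.2 hV₁)
    infer_instance
  let m : X ⟶ (E.map k.hom ⁻¹ᵁ V₁ : Scheme.{u}) := η.inv ≫ PC.π.app k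
  haveI : IsIso m := (η.symm ≪≫ (@asIso _ _ _ _ (PC.π.app k) hk :
    ((c.π.app l₁ ⁻¹ᵁ V₁ : c.pt.Opens) : Scheme.{u}) ≅ (E.map k.hom ⁻¹ᵁ V₁ : Scheme.{u}))).isIso_hom
  refine ⟨k.left, m ≫ (E.map k.hom ⁻¹ᵁ V₁).ι, inferInstance, inferInstance, ?_⟩
  show ((η.inv ≫ (c.π.app k.left).resLE _ _ _) ≫ (E.map k.hom ⁻¹ᵁ V₁).ι) ≫ s k.left ≫ tY = f
  rw [Category.assoc η.inv, Scheme.Hom.resLE_comp_ι, Category.assoc, Category.assoc,
    reassoc_of% (hq k.left), ← hη, Category.assoc, Iso.inv_hom_id_assoc, hf]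

/-- A separated quasi-finite morphism of finite presentation is an open piece of a finite morphism of finite
presentation. -/
theorem exists_finite_factorization {X S : Scheme.{u}} (f : X ⟶ S) [CompactSpace S] [QuasiSeparatedSpace S]
    [IsSeparated f] [QuasiCompact f] [LocallyQuasiFinite f] [LocallyOfFinitePresentation f] :
    ∃ (T : Scheme.{u}) (j : X ⟶ T) (π : T ⟶ S), IsOpenImmersion j ∧ QuasiCompact j ∧ IsFinite π ∧
      LocallyOfFinitePresentation π ∧ j ≫ π = f := by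
  haveI : CompactSpace X := QuasiCompact.compactSpace_of_compactSpace f
  obtain ⟨I, _, _, D, t, c, hc, e, hfin, hfp, haff, hcs, hqs, hcomp⟩ := exists_finite_diagram f.fromNormalization
  haveI : ∀ {i j : I} (a : i ⟶ j), IsAffineHom (D.map a) := @haff
  haveI := hcs; haveI := hqs
  let O : c.pt.Opens := e.hom ⁻¹ᵁ f.toNormalization.opensRange
  have hO : IsCompact (O : Set c.pt) :=
    QuasiCompact.isCompact_preimage (f := e.hom) _ f.toNormalization.opensRange.2
      (isCompact_range f.toNormalization.continuous)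
  obtain ⟨i₀, V₀, hV₀, hpre⟩ := exists_preimage_eq D c hc O hO
  let OD := opensDiagram D i₀ V₀
  let OC := opensCone D c i₀ V₀
  haveI : ∀ j, CompactSpace (OD.obj j) := fun j ↦ isCompact_iff_compactSpace.mp
    (QuasiCompact.isCompact_preimage (f := D.map j.hom) _ V₀.2 hV₀)
  haveI : ∀ {j k : Over i₀} (a : j ⟶ k), IsAffineHom (OD.map a) := fun {j k} a ↦
    isAffineHom_resLE (D.map a.left) _ (by
      show D.map j.hom ⁻¹ᵁ V₀ = D.map a.left ⁻¹ᵁ (D.map k.hom ⁻¹ᵁ V₀)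
      conv_rhs => rw [← Scheme.Hom.comp_preimage (D.map a.left) (D.map k.hom) V₀, ← D.map_comp, Over.w a])
  let ε : ((c.π.app i₀ ⁻¹ᵁ V₀ : c.pt.Opens) : Scheme.{u}) ≅ X :=
    (c.pt.isoOfEq hpre) ≪≫ asIso (e.hom ∣_ f.toNormalization.opensRange) ≪≫
      f.toNormalization.isoOpensRange.symm
  have hε : ε.hom ≫ f = (c.π.app i₀ ⁻¹ᵁ V₀).ι ≫ e.hom ≫ f.fromNormalization := by
    show ((c.pt.isoOfEq hpre).hom ≫ (e.hom ∣_ f.toNormalization.opensRange) ≫
      f.toNormalization.isoOpensRange.inv) ≫ f = _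
    have h1 : f.toNormalization.isoOpensRange.inv ≫ f =
        f.toNormalization.opensRange.ι ≫ f.fromNormalization := by
      rw [← Scheme.Hom.isoOpensRange_inv_comp f.toNormalization, Category.assoc,
        Scheme.Hom.toNormalization_fromNormalization]
    rw [Category.assoc, Category.assoc, h1, morphismRestrict_ι_assoc]
    exact Scheme.isoOfEq_hom_ι_assoc c.pt hpre _
  let t' : ∀ j : Over i₀, OD.obj j ⟶ S := fun j ↦ (D.map j.hom ⁻¹ᵁ V₀).ι ≫ t.app j.left
  obtain ⟨j, hj⟩ := NoethApproxLib.exists_isClosedImmersion_comp OD t' (fun {j k} a ↦ by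
    show (D.map a.left).resLE _ _ _ ≫ (D.map k.hom ⁻¹ᵁ V₀).ι ≫ t.app k.left = _
    rw [Scheme.Hom.resLE_comp_ι_assoc]
    congr 1
    exact (t.naturality a.left).trans (Category.comp_id _)) OC (isLimitOpensCone D c hc i₀ V₀) ε.inv (fun j ↦ by
      show LocallyOfFiniteType (ε.inv ≫ (c.π.app j.left).resLE _ _ _ ≫ (D.map j.hom ⁻¹ᵁ V₀).ι ≫ t.app j.left)
      rw [Scheme.Hom.resLE_comp_ι_assoc, hcomp]
      have : ε.inv ≫ (c.π.app i₀ ⁻¹ᵁ V₀).ι ≫ e.hom ≫ f.fromNormalization = f := by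
        rw [← hε, Iso.inv_hom_id_assoc]
      exact this.symm ▸ inferInstance)
  let W : (D.obj j.left).Opens := D.map j.hom ⁻¹ᵁ V₀
  have hWc : IsCompact (W : Set (D.obj j.left)) :=
    QuasiCompact.isCompact_preimage (f := D.map j.hom) _ V₀.2 hV₀
  haveI : QuasiCompact W.ι := by
    haveI : CompactSpace (W : Scheme.{u}) := isCompact_iff_compactSpace.mp hWc
    infer_instance
  let l : X ⟶ (W : Scheme.{u}) := ε.inv ≫ OC.π.app j
  haveI : IsClosedImmersion l := hj j (𝟙 j)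
  let κ : X ⟶ D.obj j.left := l ≫ W.ι
  have hκ : κ ≫ t.app j.left = f := by
    show ((ε.inv ≫ (c.π.app j.left).resLE _ _ _) ≫ W.ι) ≫ _ = _
    rw [Category.assoc ε.inv, Scheme.Hom.resLE_comp_ι, Category.assoc, Category.assoc, hcomp, ← hε,
      Iso.inv_hom_id_assoc]
  -- the image is a limit of closed subschemes of finite presentation
  obtain ⟨P, hPmap, hPcl⟩ := NoethApproxLib.exists_closed_sys κ.imageι
  haveI := hfin j.left
  obtain ⟨k, j', hj'o, hj'q, hj'⟩ := exists_open_piece (Y := D.obj j.left) (P.D ⋙ Over.forget (D.obj j.left))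
    (fun i ↦ (P.D.obj i).hom) (fun a ↦ Over.w (P.D.map a)) P.cone P.isLimitCone hPcl W hWc (t.app j.left) κ.imageι
    (fun i ↦ P.proj_hom i) κ.toImage (inferInstanceAs (IsOpenImmersion κ.toImage)) (opensRange_toImage W l) f ((Scheme.Hom.toImage_imageι_assoc κ (t.app j.left)).trans hκ)
  let pk : (P.D.obj k).left ⟶ D.obj j.left := (P.D.obj k).hom
  haveI : IsClosedImmersion pk := hPcl k
  haveI : LocallyOfFinitePresentation pk := P.lfp k
  haveI := hfp j.left
  haveI : IsFinite pk := ((IsClosedImmersion.iff_isFinite_and_mono _).mp inferInstance).1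
  exact ⟨(P.D.obj k).left, j', pk ≫ t.app j.left, hj'o, hj'q, inferInstance,
    MorphismProperty.comp_mem _ _ _ ‹_› ‹_›, hj'⟩

end FinSurjLib
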