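import Groth.Agent.FinSurjLib.Qfh
import Groth.Agent.UOpenLib.QuasiSectionScheme
import Groth.Agent.UOpenLib.DimOne
import Groth.Agent.UOpenLib.Normal
import Mathlib

/-!
# Local sections of universally open morphisms over absolutely integrally closed normal schemes
-/

set_option autoImplicit false
set_option linter.style.haveILetI false

noncomputable section

universe u

open AlgebraicGeometry CategoryTheory Limits

namespace FinSurjLib

/-- A universally open morphism locally of finite type onto an absolutely integrally closed normal scheme has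
local sections. -/
theorem exists_local_section_of_universallyOpen {P W : Scheme.{u}} [AlgebraicGeometry.IsIntegral W]
    (hW : LocallyRootClosed W) (h : P ⟶ W) [LocallyOfFiniteType h] [UniversallyOpen h] (n : W)
    (hn : n ∈ Set.range h) :
    ∃ (V : W.Opens) (σ : (V : Scheme.{u}) ⟶ P), n ∈ V ∧ σ ≫ h = V.ι := by
  obtain ⟨a, ha⟩ := hn
  obtain ⟨y, rfl, -, hcl⟩ := UOpenLib.exists_closed_point_of_fibre h n (Z := Set.univ) isClosed_univ
    ⟨a, trivial, ha⟩
  obtain ⟨x₀, hx₀, hx₀y, hmax, hd₀⟩ := UOpenLib.exists_max_fibreDimAt h y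
  obtain ⟨ζ, hζx₀, hζη, hdim⟩ := UOpenLib.exists_generization_of_isUnivOpenAt h hmax
    (UOpenLib.isUnivOpenAt_of_universallyOpen' h x₀)
    ((genericPoint_spec W).specializes trivial : genericPoint W ⤳ h.base x₀)
  rw [UOpenLib.fibreDimAt_eq_of_max h hmax, hd₀] at hdim
  obtain ⟨V, hV, hyV, hRC⟩ := hW (h y)
  obtain ⟨d, hd⟩ := UOpenLib.exists_fibreDimAt_eq_nat h y
  obtain ⟨U, hU, hyU, eUV, φ, hφ, hft, hqf⟩ := FibDimLib.exists_qf_affine_nhd h y hV hyV d hd
  haveI : Nonempty V := ⟨⟨h y, hyV⟩⟩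
  have hζy : ζ ⤳ y := hζx₀.trans hx₀y
  have hζU : ζ ∈ U := hζy.mem_open U.isOpen hyU
  let qy := hU.primeIdealOf ⟨y, hyU⟩
  let qζ := hU.primeIdealOf ⟨ζ, hζU⟩
  have hgen := UOpenLib.comap_eq_of_le_fibreClosureDim h hV hU eUV φ hφ hqf hζU (hd ▸ hdim)
  rw [← UOpenLib.comap_primeIdealOf h hV hU eUV φ hφ ζ hζU] at hgen
  obtain ⟨z, b, hζz, hzy, hb, hzb, hSqf⟩ := UOpenLib.exists_quasiFinite_section φ hft hqf qy qζ
    ((UOpenLib.primeIdealOf_le_iff hU hζU hyU).mpr hζy) hgen (fun q' hq' he ↦ by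
      obtain ⟨w, hw, rfl⟩ := UOpenLib.exists_point_of_prime hU q'
      have hgw : h.base w = h.base y := by
        rw [UOpenLib.comap_primeIdealOf h hV hU eUV φ hφ w hw,
          UOpenLib.comap_primeIdealOf h hV hU eUV φ hφ y hyU] at he
        have := congrArg hV.fromSpec.base he
        rwa [hV.fromSpec_primeIdealOf, hV.fromSpec_primeIdealOf] at this
      obtain rfl := hcl w hgw ((UOpenLib.primeIdealOf_le_iff hU hyU hw).mp hq')
      rfl)
  let O := Γ(W, V)
  let B := Γ(P, U)
  let Bz := B ⧸ z.asIdeal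
  let mkz : B →+* Bz := Ideal.Quotient.mk z.asIdeal
  haveI : IsDomain Bz := Ideal.Quotient.isDomain z.asIdeal
  let S := Localization.Away (mkz b)
  let ι : B →+* S := (algebraMap Bz S).comp mkz
  letI : Algebra O S := (ι.comp (φ.comp MvPolynomial.C)).toAlgebra
  haveI : Algebra.QuasiFinite O S := hSqf
  haveI : Algebra.FiniteType O S := by
    refine RingHom.FiniteType.comp ?_ (hft.comp (RingHom.finiteType_algebraMap.mpr
      (inferInstance : Algebra.FiniteType O (MvPolynomial (Fin d) O))))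
    exact (RingHom.finiteType_algebraMap.mpr
      (IsLocalization.finiteType_of_monoid_fg (Submonoid.powers (mkz b)) S)).comp
      (RingHom.FiniteType.of_surjective mkz Ideal.Quotient.mk_surjective)
  have hbz : mkz b ≠ 0 := fun e ↦ hb (hzy (Ideal.Quotient.eq_zero_iff_mem.mp e))
  haveI : IsDomain S := IsLocalization.isDomain_localization
    (powers_le_nonZeroDivisors_of_noZeroDivisors hbz)
  let qz : PrimeSpectrum Bz := ⟨qy.asIdeal.map mkz, Ideal.isPrime_map_quotientMk_of_isPrime hzy⟩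
  have hqz : qz.asIdeal.comap mkz = qy.asIdeal := by
    rw [Ideal.comap_map_of_surjective _ Ideal.Quotient.mk_surjective, ← RingHom.ker_eq_comap_bot,
      Ideal.mk_ker, sup_eq_left]
    exact hzy
  obtain ⟨Q, hQ⟩ : qz ∈ Set.range (PrimeSpectrum.comap (algebraMap Bz S)) := by
    rw [PrimeSpectrum.localization_away_comap_range S (mkz b)]
    exact fun e ↦ hb (hqz.le e)
  have hQy : Q.asIdeal.comap ι = qy.asIdeal := by
    show (Q.asIdeal.comap (algebraMap Bz S)).comap mkz = qy.asIdeal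
    rw [show Q.asIdeal.comap (algebraMap Bz S) = qz.asIdeal from congrArg PrimeSpectrum.asIdeal hQ, hqz]
  have hιker : (⊥ : Ideal S).comap ι = z.asIdeal := by
    ext w
    show algebraMap Bz S (mkz w) = 0 ↔ _
    rw [IsLocalization.to_map_eq_zero_iff S (powers_le_nonZeroDivisors_of_noZeroDivisors hbz)]
    exact Ideal.Quotient.eq_zero_iff_mem
  have hbot : (⊥ : Ideal S).comap (algebraMap O S) = ⊥ := by
    have h1 : PrimeSpectrum.comap (φ.comp MvPolynomial.C) qζ =
        (⟨⊥, Ideal.isPrime_bot⟩ : PrimeSpectrum O) := by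
      rw [UOpenLib.comap_primeIdealOf h hV hU eUV φ hφ ζ hζU]
      refine hV.fromSpec.isEmbedding.injective ?_
      rw [IsAffineOpen.fromSpec_primeIdealOf, show (⟨⊥, Ideal.isPrime_bot⟩ : PrimeSpectrum O) =
          genericPoint (Spec Γ(W, V)) from (genericPoint_eq_bot_of_affine Γ(W, V)).symm,
        ← IsAffineOpen.primeIdealOf_genericPoint hV, IsAffineOpen.fromSpec_primeIdealOf]
      exact hζη
    show (⊥ : Ideal S).comap (ι.comp (φ.comp MvPolynomial.C)) = ⊥
    rw [← Ideal.comap_comap, hιker]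
    exact congrArg PrimeSpectrum.asIdeal (hzb.trans h1)
  obtain ⟨o, ho, ⟨ψ⟩⟩ := exists_section_away hRC (⊥ : Ideal S) Q.asIdeal bot_le hbot
  let L := Localization.Away o
  let e : Spec (CommRingCat.of L) ⟶ W := Spec.map (CommRingCat.ofHom (algebraMap O L)) ≫ hV.fromSpec
  haveI : IsOpenImmersion (Spec.map (CommRingCat.ofHom (algebraMap O L))) :=
    IsOpenImmersion.of_isLocalization o
  have hoy : hV.primeIdealOf ⟨h.base y, eUV hyU⟩ ∈ PrimeSpectrum.basicOpen o := by
    rw [← UOpenLib.comap_primeIdealOf h hV hU eUV φ hφ y hyU]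
    show o ∉ qy.asIdeal.comap (φ.comp MvPolynomial.C)
    rw [← hQy, Ideal.comap_comap]
    exact ho
  have hz : h y ∈ e.opensRange := by
    obtain ⟨x, hx⟩ := (PrimeSpectrum.localization_away_comap_range L o).ge hoy
    refine ⟨x, ?_⟩
    show hV.fromSpec (Spec.map (CommRingCat.ofHom (algebraMap O L)) x) = h y
    exact (congrArg hV.fromSpec hx).trans (hV.fromSpec_primeIdealOf _)
  refine ⟨e.opensRange, e.isoOpensRange.inv ≫ Spec.map (CommRingCat.ofHom (ψ.toRingHom.comp ι)) ≫ hU.fromSpec,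
    hz, ?_⟩
  rw [Category.assoc, Category.assoc, ← hV.SpecMap_appLE_fromSpec h hU eUV, ← Spec.map_comp_assoc,
    Iso.inv_comp_eq, Scheme.Hom.isoOpensRange_hom_ι]
  congr 2
  ext1
  show (ψ.toRingHom.comp ι).comp (h.appLE V U eUV).hom = algebraMap O L
  rw [← hφ]
  exact ψ.comp_algebraMap

/-- A surjective universally open morphism locally of finite type onto a Noetherian scheme has local sections over
an integral surjective cover. -/
theorem exists_integral_sections_of_universallyOpen {X Y : Scheme.{u}} [IsNoetherian Y] (f : X ⟶ Y)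
    [UniversallyOpen f] [Surjective f] [LocallyOfFiniteType f] :
    ∃ (Z : Scheme.{u}) (π : Z ⟶ Y), IsIntegralHom π ∧ Surjective π ∧ HasLocalSections f π ⊤ := by
  obtain ⟨Z, π, hπ, hs, hcov⟩ := exists_aic_cover Y
  refine ⟨Z, π, hπ, hs, fun z _ => ?_⟩
  obtain ⟨N, j, hj, hN, hRC, n, rfl⟩ := hcov z
  haveI := hj; haveI := hN
  let h := pullback.fst (j ≫ π) f
  haveI : UniversallyOpen h := inferInstance
  obtain ⟨V, σ, hV, hσ⟩ := exists_local_section_of_universallyOpen hRC h n (h.surjective n)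
  refine ⟨j ''ᵁ V, (j.isoImage V).inv ≫ σ ≫ pullback.snd (j ≫ π) f, ⟨n, hV, rfl⟩, ?_⟩
  rw [Category.assoc, Category.assoc, ← pullback.condition, ← Category.assoc σ, hσ, Iso.inv_comp_eq,
    Scheme.Hom.isoImage_hom_ι_assoc]

end FinSurjLib
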