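import Groth.Agent.FinSurjLib.Integral
import Groth.Agent.S7382
import Mathlib

/-!
# Finite finitely presented surjective covers dominated by an fppf morphism
-/

set_option autoImplicit false
set_option linter.style.haveILetI false

noncomputable section

universe u

open AlgebraicGeometry CategoryTheory Limits Opposite

namespace FinSurjLib

theorem isAffineHom_resLE {X Y : Scheme.{u}} (f : X ⟶ Y) [IsAffineHom f] {U : Y.Opens} {V : X.Opens}
    (e : V ≤ f ⁻¹ᵁ U) (h : V = f ⁻¹ᵁ U) : IsAffineHom (f.resLE U V e) := by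
  subst h
  rw [Scheme.Hom.resLE_eq_morphismRestrict]
  exact MorphismProperty.of_isPullback (P := @IsAffineHom) (isPullback_morphismRestrict f U).flip ‹_›

theorem isAffineHom_of_w {A B Y : Scheme.{u}} (m : A ⟶ B) (p : A ⟶ Y) (q : B ⟶ Y) [IsFinite p] [IsFinite q]
    (h : m ≫ q = p) : IsAffineHom m := by
  subst h
  haveI : IsAffineHom (m ≫ q) := inferInstance
  exact IsAffineHom.of_comp m q

section

variable {I : Type u} [SmallCategory I] [IsCofiltered I] {S X : Scheme.{u}} (g : X ⟶ S)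
  [LocallyOfFinitePresentation g] (D : I ⥤ Scheme.{u}) (t : D ⟶ (Functor.const I).obj S)
  [∀ {i j : I} (a : i ⟶ j), IsAffineHom (D.map a)] [∀ i, CompactSpace (D.obj i)]
  [∀ i, QuasiSeparatedSpace (D.obj i)] (c : Cone D) (hc : IsLimit c) (p : c.pt ⟶ S)
  (hp : ∀ i, c.π.app i ≫ t.app i = p)

include hc hp

/-- A local section over a quasi-compact open of the limit is one over an open of some stage. -/
theorem exists_stage_section (V : c.pt.Opens) (hV : IsCompact (V : Set c.pt)) (h : (V : Scheme.{u}) ⟶ X)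
    (hh : h ≫ g = V.ι ≫ p) :
    ∃ (i : I) (W : (D.obj i).Opens) (k : (W : Scheme.{u}) ⟶ X),
      c.π.app i ⁻¹ᵁ W = V ∧ k ≫ g = W.ι ≫ t.app i := by
  obtain ⟨i₀, V₀, hV₀, rfl⟩ := exists_preimage_eq D c hc V hV
  let OD := opensDiagram D i₀ V₀
  let OC := opensCone D c i₀ V₀
  haveI : ∀ j, CompactSpace (OD.obj j) := fun j ↦ isCompact_iff_compactSpace.mp
    (QuasiCompact.isCompact_preimage (f := D.map j.hom) _ V₀.2 hV₀)
  haveI : ∀ j, QuasiSeparatedSpace (OD.obj j) := fun j ↦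
    (isQuasiSeparated_iff_quasiSeparatedSpace _ (D.map j.hom ⁻¹ᵁ V₀).2).mp (.of_quasiSeparatedSpace _)
  haveI : ∀ {j k : Over i₀} (a : j ⟶ k), IsAffineHom (OD.map a) := fun {j k} a ↦ by
    exact isAffineHom_resLE (D.map a.left) _ (by rw [← Scheme.Hom.comp_preimage, ← D.map_comp, Over.w a])
  let T : OD ⟶ (Functor.const (Over i₀)).obj S :=
    { app := fun j ↦ (D.map j.hom ⁻¹ᵁ V₀).ι ≫ t.app j.left
      naturality := fun j k a ↦ by
        show (D.map a.left).resLE _ _ _ ≫ (D.map k.hom ⁻¹ᵁ V₀).ι ≫ t.app k.left = _ ≫ 𝟙 _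
        rw [Scheme.Hom.resLE_comp_ι_assoc, Category.comp_id]
        congr 1
        exact (t.naturality a.left).trans (Category.comp_id _) }
  obtain ⟨j, k, -, hk⟩ := Scheme.exists_π_app_comp_eq_of_locallyOfFinitePresentation OD T g OC
    (isLimitOpensCone D c hc i₀ V₀) h (NatTrans.ext (funext fun j ↦ by
      show (c.π.app j.left).resLE _ _ _ ≫ (D.map j.hom ⁻¹ᵁ V₀).ι ≫ t.app j.left = h ≫ g
      rw [Scheme.Hom.resLE_comp_ι_assoc, hp, hh]))
  refine ⟨j.left, D.map j.hom ⁻¹ᵁ V₀, k, ?_, hk⟩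
  rw [← Scheme.Hom.comp_preimage, c.w]

/-- Local sections over a limit come from local sections over a stage. -/
theorem exists_stage_sections (H : HasLocalSections g p ⊤) :
    ∃ i, HasLocalSections g (t.app i) ⊤ := by
  classical
  haveI : CompactSpace c.pt := Scheme.compactSpace_of_isLimit D c hc
  have h1 : ∀ y : c.pt, ∃ (V : c.pt.Opens) (i : I) (W : (D.obj i).Opens) (k : (W : Scheme.{u}) ⟶ X),
      y ∈ V ∧ c.π.app i ⁻¹ᵁ W = V ∧ k ≫ g = W.ι ≫ t.app i := fun y => by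
    obtain ⟨V, h, hy, hh⟩ := H y trivial
    obtain ⟨V', hV', hyV', hle⟩ := exists_isAffineOpen_mem_and_subset (U := V) hy
    obtain ⟨i, W, k, hW, hk⟩ := exists_stage_section g D t c hc p hp V' hV'.isCompact
      (c.pt.homOfLE hle ≫ h) (by rw [Category.assoc, hh, Scheme.homOfLE_ι_assoc])
    exact ⟨V', i, W, k, hyV', hW, hk⟩
  choose V i W k hyV hW hk using h1
  obtain ⟨s, hs⟩ := (isCompact_univ (X := c.pt)).elim_finite_subcover (fun y => (V y : Set c.pt))
    (fun y => (V y).2) (fun y _ => Set.mem_iUnion.2 ⟨y, hyV y⟩)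
  obtain ⟨j, hj⟩ := IsCofiltered.inf_objs_exists (s.image i)
  let a : ∀ y : s, j ⟶ i y.1 := fun y => (hj (Finset.mem_image_of_mem _ y.2)).some
  let O : (D.obj j).Opens := ⨆ y : s, D.map (a y) ⁻¹ᵁ W y.1
  obtain ⟨l, b, hl⟩ := exists_map_eq_top D c hc O (by
    refine top_le_iff.1 fun z _ => ?_
    obtain ⟨y, hy, hzy⟩ := Set.mem_iUnion₂.1 (hs (Set.mem_univ z))
    show c.π.app j z ∈ O
    refine TopologicalSpace.Opens.mem_iSup.2 ⟨⟨y, hy⟩, ?_⟩
    show D.map (a ⟨y, hy⟩) (c.π.app j z) ∈ W y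
    rw [← Scheme.Hom.comp_apply, c.w, ← Scheme.Hom.mem_preimage, hW]
    exact hzy)
  refine ⟨l, fun z _ => ?_⟩
  have hz : D.map b z ∈ O := (hl.ge trivial : z ∈ D.map b ⁻¹ᵁ O)
  obtain ⟨y, hy⟩ := TopologicalSpace.Opens.mem_iSup.1 hz
  refine ⟨D.map (b ≫ a y) ⁻¹ᵁ W y.1, (D.map (b ≫ a y) ∣_ W y.1) ≫ k y.1, ?_, ?_⟩
  · show D.map (b ≫ a y) z ∈ W y.1
    rw [D.map_comp, Scheme.Hom.comp_apply]
    exact hy
  · rw [Category.assoc, hk, morphismRestrict_ι_assoc]
    congr 1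
    exact (t.naturality _).trans (Category.comp_id _)

end

/-- An fppf cover of a quasi-compact quasi-separated scheme is dominated Zariski locally by a finite finitely
presented surjective cover. -/
theorem exists_finite_cover {X S : Scheme.{u}} (g : X ⟶ S) [Flat g] [LocallyOfFinitePresentation g]
    [Surjective g] [CompactSpace S] [QuasiSeparatedSpace S] :
    ∃ (S' : Scheme.{u}) (π : S' ⟶ S), Surjective π ∧ IsFinite π ∧ LocallyOfFinitePresentation π ∧
      ∀ y : S', ∃ (V : S'.Opens) (h : (V : Scheme.{u}) ⟶ X), y ∈ V ∧ h ≫ g = V.ι ≫ π := by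
  obtain ⟨Z, π, hπ, hsur, H⟩ := exists_integral_cover g
  obtain ⟨J, _, _, _, D, c, hc, hD, ⟨e⟩⟩ := Groth.Agent.S7382.result π
  haveI : IsConnected Jᵒᵖ := IsCofiltered.isConnected _
  let F := D ⋙ Over.forget S
  let t : F ⟶ (Functor.const Jᵒᵖ).obj S :=
    { app := fun i ↦ (D.obj i).hom
      naturality := fun i j a ↦ (Over.w (D.map a)).trans (Category.comp_id _).symm }
  haveI hfin : ∀ i, IsFinite (t.app i) := fun i ↦ (hD i).1
  haveI : ∀ i, CompactSpace (F.obj i) := fun i ↦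
    QuasiCompact.compactSpace_of_compactSpace (Y := S) (t.app i)
  haveI : ∀ i, QuasiSeparatedSpace (F.obj i) := fun i ↦
    quasiSeparatedSpace_of_quasiSeparated (Y := S) (t.app i)
  haveI : ∀ {i j : Jᵒᵖ} (a : i ⟶ j), IsAffineHom (F.map a) := fun {i j} a ↦
    isAffineHom_of_w (Y := S) (F.map a) (t.app i) (t.app j) (Over.w (D.map a))
  have hec : e.hom.left ≫ π = c.pt.hom := Over.w e.hom
  obtain ⟨i, hi⟩ := exists_stage_sections g F t ((Over.forget S).mapCone c)
    (isLimitOfPreserves (Over.forget S) hc) c.pt.hom (fun i ↦ Over.w (c.π.app i)) (hec ▸ H.comp e.hom.left)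
  refine ⟨(D.obj i).left, (D.obj i).hom, ⟨fun s => ?_⟩, (hD i).1, (hD i).2, fun y => hi y trivial⟩
  obtain ⟨z, hz⟩ := hsur.surj s
  refine ⟨(c.π.app i).left (e.inv.left z), ?_⟩
  have h1 : (c.π.app i).left ≫ (D.obj i).hom = c.pt.hom := Over.w (c.π.app i)
  have h2 : e.inv.left ≫ c.pt.hom = π := Over.w e.inv
  calc _ = ((c.π.app i).left ≫ (D.obj i).hom) (e.inv.left z) := rfl
    _ = c.pt.hom (e.inv.left z) := congr($h1 _)
    _ = (e.inv.left ≫ c.pt.hom) z := rfl
    _ = π z := congr($h2 _)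
    _ = s := hz

end FinSurjLib
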