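import Groth.Agent.FinSurjLib.Domain
import Groth.Agent.FlatLib.StageFF
import Groth.Agent.S2144
import Mathlib

/-!
# Faithfully flat finitely presented algebras have local sections over finite surjective covers
-/

set_option autoImplicit false
set_option linter.style.haveILetI false

noncomputable section

universe u

open TensorProduct

namespace FinSurjLib

/-- A faithfully flat algebra of finite presentation acquires Zariski-local sections over a jointly surjective
finite family of finite algebras of finite presentation. -/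
theorem exists_cover {R B : Type u} [CommRing R] [CommRing B] [Algebra R B] [Algebra.FinitePresentation R B]
    [Module.FaithfullyFlat R B] :
    ∃ (ι : Type u) (_ : Finite ι) (A : ι → Type u) (_ : ∀ i, CommRing (A i)) (_ : ∀ i, Algebra R (A i)),
      (∀ i, Module.Finite R (A i)) ∧ (∀ i, Algebra.FinitePresentation R (A i)) ∧
      (∀ q : PrimeSpectrum R, ∃ i, q ∈ Set.range (PrimeSpectrum.comap (algebraMap R (A i)))) ∧
      ∀ i (t : PrimeSpectrum (A i)), ∃ f ∉ t.asIdeal, Nonempty (B →ₐ[R] Localization.Away f) := by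
  classical
  letI : Algebra (ULift.{u} ℤ) R := ((Int.castRingHom R).comp ULift.ringEquiv.toRingHom).toAlgebra
  obtain ⟨R₀, B₀, _, _, _, _, _, _, hfp₀, hfpB, hff, ⟨e⟩⟩ :=
    Groth.Agent.S2144.result (R := ULift.{u} ℤ) (A := R) (B := B)
  haveI : IsNoetherianRing (ULift.{u} ℤ) := isNoetherianRing_of_ringEquiv ℤ ULift.ringEquiv.symm
  haveI : IsNoetherianRing R₀ := Algebra.FiniteType.isNoetherianRing (ULift.{u} ℤ) R₀
  obtain ⟨C, _, _, ⟨hqf, hfpC, hflC, ⟨φ⟩⟩, hffC⟩ := FlatLib.exists_qf_cover (R := R₀) (B := B₀)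
  haveI : Finite ↥(minimalPrimes R₀) := (minimalPrimes.finite_of_isNoetherianRing R₀).to_subtype
  haveI : ∀ p : ↥(minimalPrimes R₀), p.1.IsPrime := fun p => p.2.1.1
  choose A iA iRA hAfin hAp hAker hA using fun p : ↥(minimalPrimes R₀) => exists_finite_domain (C := C) p.1
  refine ⟨↥(minimalPrimes R₀), inferInstance, fun p => R ⊗[R₀] A p, inferInstance, inferInstance,
    fun p => inferInstance, fun p => ?_, fun q => ?_, fun p t => ?_⟩
  · haveI : Algebra.FinitePresentation R₀ (A p) := Algebra.FinitePresentation.of_finiteType.1 inferInstance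
    infer_instance
  · let q₀ := PrimeSpectrum.comap (algebraMap R₀ R) q
    obtain ⟨p, hp, hpq⟩ := Ideal.exists_minimalPrimes_le (I := (⊥ : Ideal R₀)) (J := q₀.asIdeal) bot_le
    refine ⟨⟨p, hp⟩, FlatLib.mem_range_comap_baseChange q ?_⟩
    obtain ⟨Q, -, hQ, hQq⟩ := Ideal.exists_ideal_over_prime_of_isIntegral (S := A ⟨p, hp⟩) q₀.asIdeal ⊥ (by
      rw [← RingHom.ker_eq_comap_bot, hAker]
      exact hpq)
    exact ⟨⟨Q, hQ⟩, PrimeSpectrum.ext hQq⟩
  · let t₀ := PrimeSpectrum.comap (Algebra.TensorProduct.includeRight : A p →ₐ[R₀] R ⊗[R₀] A p).toRingHom t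
    obtain ⟨f, hf, ⟨ψ⟩⟩ := hA p t₀
    let g : R ⊗[R₀] A p := (1 : R) ⊗ₜ[R₀] f
    refine ⟨g, hf, ⟨?_⟩⟩
    let L := Localization.Away g
    let a : A p →ₐ[R₀] L :=
      ((IsScalarTower.toAlgHom R (R ⊗[R₀] A p) L).restrictScalars R₀).comp Algebra.TensorProduct.includeRight
    let a' : Localization.Away f →ₐ[R₀] L := IsLocalization.liftAlgHom (M := Submonoid.powers f) (f := a) (fun y => by
      obtain ⟨_, k, rfl⟩ := y
      rw [map_pow]
      exact (IsLocalization.Away.algebraMap_isUnit g : IsUnit (algebraMap (R ⊗[R₀] A p) L g)).pow k)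
    exact (Algebra.TensorProduct.lift (Algebra.ofId R L) ((a'.comp ψ).comp φ) (fun _ _ => Commute.all _ _)).comp
      e.toAlgHom

end FinSurjLib
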