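import Groth.Agent.FinSurjLib.Main
import Groth.Agent.VCovLib.SubtrNoeth
import Mathlib

/-!
# Sections over absolutely integrally closed normal schemes
-/

set_option autoImplicit false
set_option linter.style.haveILetI false

noncomputable section

universe u

open AlgebraicGeometry CategoryTheory Limits Polynomial

namespace FinSurjLib

/-- Every monic polynomial of positive degree has a root. -/
def RootClosed (O : Type u) [CommRing O] : Prop :=
  ∀ q : Polynomial O, q.Monic → 0 < q.natDegree → ∃ a, q.IsRoot a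

/-- Over a root closed domain an integral element of an integral domain comes from the base. -/
theorem mem_range_of_isIntegral {O D : Type u} [CommRing O] [IsDomain O] [CommRing D] [IsDomain D] [Algebra O D]
    (hO : RootClosed O) {x : D} (hx : IsIntegral O x) : x ∈ Set.range (algebraMap O D) := by
  suffices key : ∀ n (q : Polynomial O), q.natDegree = n → q.Monic → aeval x q = 0 →
      x ∈ Set.range (algebraMap O D) by
    obtain ⟨q, hq, hqx⟩ := hx
    exact key _ q rfl hq hqx
  intro n
  induction n with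
  | zero =>
    intro q hn hq hqx
    rw [hq.natDegree_eq_zero.mp hn, map_one] at hqx
    exact absurd hqx one_ne_zero
  | succ n ih =>
    intro q hn hq hqx
    obtain ⟨a, ha⟩ := hO q hq (hn ▸ Nat.succ_pos n)
    obtain ⟨q', rfl⟩ := dvd_iff_isRoot.mpr ha
    have hq' : q'.Monic := (monic_X_sub_C a).of_mul_monic_left hq
    rw [map_mul, map_sub, aeval_X, aeval_C, mul_eq_zero] at hqx
    rcases hqx with h | h
    · exact ⟨a, (sub_eq_zero.mp h).symm⟩
    · refine ih q' ?_ hq' h
      rw [(monic_X_sub_C a).natDegree_mul hq', natDegree_X_sub_C] at hn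
      omega

/-- A quasi-finite algebra of finite type over a root closed domain has a section near any prime which has a
generization over zero. -/
theorem exists_section_away {O C : Type u} [CommRing O] [IsDomain O] [CommRing C] [Algebra O C]
    (hO : RootClosed O) [Algebra.FiniteType O C] [Algebra.QuasiFinite O C] (P Q : Ideal C) [P.IsPrime]
    [Q.IsPrime] (hPQ : P ≤ Q) (hP : P.comap (algebraMap O C) = ⊥) :
    ∃ o ∉ Q.comap (algebraMap O C), Nonempty (C →ₐ[O] Localization.Away o) := by
  let D := C ⧸ P
  let Q' : Ideal D := Q.map (Ideal.Quotient.mk P)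
  haveI : Q'.IsPrime := Ideal.map_isPrime_of_surjective Ideal.Quotient.mk_surjective (by rwa [Ideal.mk_ker])
  haveI : Algebra.FiniteType O D :=
    Algebra.FiniteType.of_surjective (f := Ideal.Quotient.mkₐ O P) Ideal.Quotient.mk_surjective
  haveI : Algebra.QuasiFinite O D := inferInstance
  have hinj : Function.Injective (algebraMap O D) := (injective_iff_map_eq_zero _).mpr fun o ho => by
    rw [IsScalarTower.algebraMap_apply O C D, Ideal.Quotient.algebraMap_eq, Ideal.Quotient.eq_zero_iff_mem,
      ← Ideal.mem_comap, hP] at ho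
    exact ho
  obtain ⟨r, hr, hrint, hx⟩ := (Algebra.zariskisMainProperty_iff (R := O)).mp
    (Algebra.ZariskisMainProperty.of_finiteType (R := O) (S := D) Q')
  obtain ⟨o, rfl⟩ := mem_range_of_isIntegral hO hrint
  have ho : o ∉ Q.comap (algebraMap O C) := fun h => hr (by
    rw [IsScalarTower.algebraMap_apply O C D]
    exact Ideal.mem_map_of_mem _ h)
  refine ⟨o, ho, ?_⟩
  have ho0 : o ≠ 0 := fun e => ho (by rw [e]; exact zero_mem _)
  let L := Localization.Away o
  let M := Localization.Away (algebraMap O D o)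
  let ψ : L →ₐ[O] M := IsLocalization.liftAlgHom (M := Submonoid.powers o) (f := Algebra.ofId O M) (fun y => by
    obtain ⟨_, m, rfl⟩ := y
    rw [map_pow]
    refine IsUnit.pow m ?_
    show IsUnit (algebraMap O M o)
    rw [IsScalarTower.algebraMap_apply O D M]
    exact IsLocalization.Away.algebraMap_isUnit (algebraMap O D o))
  have hu : ∀ d : D, ∃ l : L, ψ l = algebraMap D M d := fun d => by
    obtain ⟨m, hm⟩ := hx d
    obtain ⟨a, ha⟩ := mem_range_of_isIntegral hO hm
    refine ⟨IsLocalization.mk' L a (⟨o ^ m, m, rfl⟩ : Submonoid.powers o), ?_⟩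
    have h1 := congrArg ψ (IsLocalization.mk'_spec L a (⟨o ^ m, m, rfl⟩ : Submonoid.powers o))
    rw [map_mul, ψ.commutes, ψ.commutes] at h1
    simp only [IsScalarTower.algebraMap_apply O D M] at h1
    rw [map_pow, ha, map_mul, mul_comm] at h1
    have hu : IsUnit (algebraMap D M (algebraMap O D o ^ m)) := by
      rw [map_pow]; exact (IsLocalization.Away.algebraMap_isUnit (algebraMap O D o)).pow m
    exact hu.mul_left_cancel h1
  have hψ : Function.Injective ψ := (injective_iff_map_eq_zero ψ).mpr fun l hl => by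
    obtain ⟨⟨a, ⟨_, m, rfl⟩⟩, e⟩ := IsLocalization.surj (Submonoid.powers o) l
    dsimp only at e
    have h1 := congrArg ψ e
    rw [map_mul, hl, zero_mul, ψ.commutes, IsScalarTower.algebraMap_apply O D M] at h1
    have h2 : algebraMap O D a = 0 := IsLocalization.injective M
      (powers_le_nonZeroDivisors_of_noZeroDivisors (by rwa [map_ne_zero_iff _ hinj])) (by rw [← h1, map_zero])
    rw [hinj (h2.trans (map_zero _).symm), map_zero] at e
    exact ((IsLocalization.map_units L (⟨o ^ m, m, rfl⟩ : Submonoid.powers o)).mul_left_eq_zero).mp e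
  choose s hs using hu
  exact ⟨{ toFun := fun c => s (Ideal.Quotient.mk P c)
           map_one' := hψ (by rw [hs, map_one, map_one, map_one])
           map_mul' := fun a b => hψ (by rw [map_mul ψ, hs, hs, hs, map_mul, map_mul])
           map_zero' := hψ (by rw [hs, map_zero, map_zero, map_zero])
           map_add' := fun a b => hψ (by rw [map_add ψ, hs, hs, hs, map_add, map_add])
           commutes' := fun a => hψ (by
            rw [hs, ψ.commutes, IsScalarTower.algebraMap_apply O D M]
            rfl) }⟩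

/-- Normalisations in algebraically closed fields are root closed. -/
theorem rootClosed_integralClosure {R K : Type u} [CommRing R] [Field K] [IsAlgClosed K] [Algebra R K] :
    RootClosed (integralClosure R K) := by
  intro q hq hdeg
  have hd : (q.map (algebraMap (integralClosure R K) K)).degree ≠ 0 := by
    rw [hq.degree_map, degree_eq_natDegree hq.ne_zero]
    exact_mod_cast hdeg.ne'
  obtain ⟨a, ha⟩ := IsAlgClosed.exists_root _ hd
  have ha' : IsIntegral R a := isIntegral_trans (A := integralClosure R K) a ⟨q, hq, by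
    rw [← Polynomial.eval_map]; exact ha⟩
  refine ⟨⟨a, ha'⟩, (FaithfulSMul.algebraMap_injective (integralClosure R K) K) ?_⟩
  rw [map_zero, ← eval₂_at_apply, ← Polynomial.eval_map]
  exact ha

theorem RootClosed.of_ringEquiv {O O' : Type u} [CommRing O] [CommRing O'] (e : O ≃+* O') (h : RootClosed O) :
    RootClosed O' := by
  intro q hq hdeg
  obtain ⟨a, ha⟩ := h (q.map e.symm.toRingHom) (hq.map _) (by rwa [natDegree_map_eq_of_injective e.symm.injective])
  refine ⟨e a, ?_⟩
  have h1 : e.symm (q.eval (e a)) = 0 := by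
    have := eval_map_apply (f := e.symm.toRingHom) (p := q) (e a)
    simp only [RingEquiv.toRingHom_eq_coe, RingHom.coe_coe, RingEquiv.symm_apply_apply] at this
    rw [← this]; exact ha
  exact e.symm.injective (h1.trans (map_zero e.symm).symm)

/-- Points have affine neighbourhoods with root closed rings of functions. -/
def LocallyRootClosed (W : Scheme.{u}) : Prop :=
  ∀ z : W, ∃ V : W.Opens, IsAffineOpen V ∧ z ∈ V ∧ RootClosed Γ(W, V)

/-- A quasi-finite morphism to an absolutely integrally closed normal scheme has a section near a point which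
lifts the specialisation from the generic point. -/
theorem exists_local_section {P W : Scheme.{u}} [AlgebraicGeometry.IsIntegral W] (hW : LocallyRootClosed W)
    (h : P ⟶ W) [LocallyOfFiniteType h] [LocallyQuasiFinite h] {ξ y : P} (hs : ξ ⤳ y)
    (hξ : h ξ = genericPoint W) :
    ∃ (V : W.Opens) (σ : (V : Scheme.{u}) ⟶ P), h y ∈ V ∧ σ ≫ h = V.ι := by
  obtain ⟨V, hV, hzV, hRC⟩ := hW (h y)
  obtain ⟨A, hA, hyA, hle⟩ := exists_isAffineOpen_mem_and_subset (X := P) (x := y) (U := h ⁻¹ᵁ V) hzV
  haveI : Nonempty V := ⟨⟨h y, hzV⟩⟩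
  have hξA : ξ ∈ A := hs.mem_open A.2 hyA
  let ψ := h.appLE V A hle
  letI : Algebra Γ(W, V) Γ(P, A) := ψ.hom.toAlgebra
  haveI : Algebra.FiniteType Γ(W, V) Γ(P, A) := Scheme.Hom.finiteType_appLE h hV hA hle
  haveI : Algebra.QuasiFinite Γ(W, V) Γ(P, A) :=
    HasRingHomProperty.appLE @LocallyQuasiFinite h inferInstance ⟨V, hV⟩ ⟨A, hA⟩ hle
  let pξ := hA.primeIdealOf ⟨ξ, hξA⟩
  let py := hA.primeIdealOf ⟨y, hyA⟩
  have hfrom : ∀ x : Spec Γ(P, A), hV.fromSpec (Spec.map ψ x) = h (hA.fromSpec x) := fun x => by
    rw [← Scheme.Hom.comp_apply, hV.SpecMap_appLE_fromSpec h hA hle, Scheme.Hom.comp_apply]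
  have hsp : pξ ⤳ py := by
    apply hA.fromSpec.isEmbedding.isInducing.specializes_iff.1
    rw [IsAffineOpen.fromSpec_primeIdealOf, IsAffineOpen.fromSpec_primeIdealOf]
    exact hs
  have hbot : pξ.asIdeal.comap ψ.hom = ⊥ := by
    have h1 : Spec.map ψ pξ = genericPoint (Spec Γ(W, V)) := by
      refine hV.fromSpec.isEmbedding.injective ?_
      rw [hfrom, IsAffineOpen.fromSpec_primeIdealOf, hξ, ← IsAffineOpen.primeIdealOf_genericPoint hV,
        IsAffineOpen.fromSpec_primeIdealOf]
    rw [genericPoint_eq_bot_of_affine] at h1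
    exact congr(PrimeSpectrum.asIdeal $h1)
  obtain ⟨o, ho, ⟨φ⟩⟩ := exists_section_away hRC pξ.asIdeal py.asIdeal
    ((PrimeSpectrum.le_iff_specializes _ _).2 hsp) hbot
  let L := Localization.Away o
  let e : Spec (CommRingCat.of L) ⟶ W := Spec.map (CommRingCat.ofHom (algebraMap Γ(W, V) L)) ≫ hV.fromSpec
  haveI : IsOpenImmersion (Spec.map (CommRingCat.ofHom (algebraMap Γ(W, V) L))) :=
    IsOpenImmersion.of_isLocalization o
  have hz : h y ∈ e.opensRange := by
    have h2 : Spec.map ψ py ∈ Set.range (Spec.map (CommRingCat.ofHom (algebraMap Γ(W, V) L))) :=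
      (PrimeSpectrum.localization_away_comap_range L o).ge ho
    obtain ⟨x, hx⟩ := h2
    refine ⟨x, ?_⟩
    show hV.fromSpec (Spec.map (CommRingCat.ofHom (algebraMap Γ(W, V) L)) x) = h y
    rw [hx, hfrom, IsAffineOpen.fromSpec_primeIdealOf]
  refine ⟨e.opensRange, e.isoOpensRange.inv ≫ Spec.map (CommRingCat.ofHom φ.toRingHom) ≫ hA.fromSpec, hz, ?_⟩
  rw [Category.assoc, Category.assoc, ← hV.SpecMap_appLE_fromSpec h hA hle, ← Spec.map_comp_assoc,
    Iso.inv_comp_eq, Scheme.Hom.isoOpensRange_hom_ι]
  congr 2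
  ext1
  exact φ.comp_algebraMap

/-- Every point of a scheme is dominated by an integral, absolutely integrally closed normal scheme. -/
theorem exists_rootClosed_over {Y : Scheme.{u}} [IsNoetherian Y] (η : Y) :
    ∃ (N : Scheme.{u}) (π : N ⟶ Y), IsIntegralHom π ∧ AlgebraicGeometry.IsIntegral N ∧ LocallyRootClosed N ∧
      Set.range π = closure {η} := by
  let K := AlgebraicClosure (Y.residueField η)
  let f : Spec (CommRingCat.of K) ⟶ Y :=
    Spec.map (CommRingCat.ofHom (algebraMap (Y.residueField η) K)) ≫ Y.fromSpecResidueField η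
  haveI : QuasiCompact f := inferInstance
  refine ⟨f.normalization, f.fromNormalization, inferInstance, inferInstance, fun z => ?_, ?_⟩
  · obtain ⟨U, hU, hzU, -⟩ := exists_isAffineOpen_mem_and_subset (X := Y) (x := f.fromNormalization z) (U := ⊤) trivial
    refine ⟨f.fromNormalization ⁻¹ᵁ U, hU.preimage _, hzU, ?_⟩
    have htop : f ⁻¹ᵁ U = ⊤ := by
      obtain ⟨x, hx⟩ := f.toNormalization.denseRange.exists_mem_open (f.fromNormalization ⁻¹ᵁ U).2 ⟨z, hzU⟩
      refine top_le_iff.1 fun x' _ => ?_
      obtain rfl : x = x' := Subsingleton.elim _ _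
      show f x ∈ U
      rw [← f.toNormalization_fromNormalization, Scheme.Hom.comp_apply]
      exact hx
    letI := (f.app U).hom.toAlgebra
    refine RootClosed.of_ringEquiv (f.normalizationObjIso hU).commRingCatIsoToRingEquiv.symm ?_
    have key : ∀ (O : (Spec (CommRingCat.of K)).Opens), O = ⊤ → Nonempty (Γ(Spec (CommRingCat.of K), O) ≃+* K) := by
      rintro O rfl
      exact ⟨(Scheme.ΓSpecIso (CommRingCat.of K)).commRingCatIsoToRingEquiv⟩
    obtain ⟨ek⟩ := key _ htop
    letI : Algebra Γ(Y, U) K := (ek.toRingHom.comp (algebraMap Γ(Y, U) Γ(Spec (CommRingCat.of K), f ⁻¹ᵁ U))).toAlgebra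
    let ek' : Γ(Spec (CommRingCat.of K), f ⁻¹ᵁ U) ≃ₐ[Γ(Y, U)] K := AlgEquiv.ofRingEquiv (f := ek) (fun _ => rfl)
    exact RootClosed.of_ringEquiv ek'.mapIntegralClosure.symm.toRingEquiv rootClosed_integralClosure
  · refine subset_antisymm ?_ ?_
    · rintro _ ⟨z, rfl⟩
      have hz : z ∈ closure (Set.range f.toNormalization) := f.toNormalization.denseRange.closure_range.ge trivial
      have := map_mem_closure f.fromNormalization.continuous hz (t := {η}) (fun w hw => by
        obtain ⟨x, rfl⟩ := hw
        rw [← Scheme.Hom.comp_apply, f.toNormalization_fromNormalization]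
        exact Scheme.fromSpecResidueField_apply η _)
      exact this
    · refine (f.fromNormalization.isClosedMap.isClosed_range).closure_subset_iff.2 ?_
      intro w hw
      rw [Set.mem_singleton_iff.1 hw]
      obtain ⟨x⟩ : Nonempty (Spec (CommRingCat.of K)) := inferInstance
      refine ⟨f.toNormalization x, ?_⟩
      rw [← Scheme.Hom.comp_apply, f.toNormalization_fromNormalization]
      exact Scheme.fromSpecResidueField_apply η _

/-- An absolutely integrally closed cover with finitely many components, relative to finitely many points. -/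
theorem exists_cover_points {Y : Scheme.{u}} [IsNoetherian Y] (s : Finset Y) :
    ∃ (Z : Scheme.{u}) (π : Z ⟶ Y), IsIntegralHom π ∧ (∀ η ∈ s, closure {η} ⊆ Set.range π) ∧
      ∀ z : Z, ∃ (N : Scheme.{u}) (j : N ⟶ Z), IsOpenImmersion j ∧ AlgebraicGeometry.IsIntegral N ∧
        LocallyRootClosed N ∧ z ∈ Set.range j := by
  classical
  induction s using Finset.induction with
  | empty =>
    haveI : IsIntegralHom (Scheme.emptyTo Y) := inferInstance
    exact ⟨∅, Scheme.emptyTo Y, inferInstance, fun η hη => absurd hη (Finset.notMem_empty η), fun z => isEmptyElim z⟩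
  | insert η s _ ih =>
    obtain ⟨Z, π, hπ, hs, hcov⟩ := ih
    obtain ⟨N, ρ, hρ, hNi, hN, hr⟩ := exists_rootClosed_over η
    refine ⟨N ⨿ Z, coprod.desc ρ π, inferInstance, fun η' hη' => ?_, fun z => ?_⟩
    · rintro y hy
      rcases Finset.mem_insert.1 hη' with rfl | hη'
      · obtain ⟨x, rfl⟩ := hr.ge hy
        exact ⟨coprod.inl (C := Scheme.{u}) (X := N) (Y := Z) x, by rw [← Scheme.Hom.comp_apply, coprod.inl_desc]⟩
      · obtain ⟨x, rfl⟩ := hs η' hη' hy
        exact ⟨coprod.inr (C := Scheme.{u}) (X := N) (Y := Z) x, by rw [← Scheme.Hom.comp_apply, coprod.inr_desc]⟩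
    · rcases (isCompl_range_inl_inr N Z).codisjoint.top_le (Set.mem_univ z) with h | h
      · exact ⟨N, coprod.inl, inferInstance, hNi, hN, h⟩
      · obtain ⟨x, rfl⟩ := h
        obtain ⟨N', j, hj, h₁, h₂, ⟨a, rfl⟩⟩ := hcov x
        exact ⟨N', j ≫ coprod.inr, inferInstance, h₁, h₂, a, rfl⟩

/-- A Noetherian scheme has an absolutely integrally closed integral surjective cover. -/
theorem exists_aic_cover (Y : Scheme.{u}) [IsNoetherian Y] :
    ∃ (Z : Scheme.{u}) (π : Z ⟶ Y), IsIntegralHom π ∧ Surjective π ∧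
      ∀ z : Z, ∃ (N : Scheme.{u}) (j : N ⟶ Z), IsOpenImmersion j ∧ AlgebraicGeometry.IsIntegral N ∧
        LocallyRootClosed N ∧ z ∈ Set.range j := by
  classical
  haveI : Finite ↥(irreducibleComponents ↥Y) := TopologicalSpace.NoetherianSpace.finite_irreducibleComponents.to_subtype
  choose g hg using fun T : irreducibleComponents ↥Y =>
    QuasiSober.sober T.2.1 (isClosed_of_mem_irreducibleComponents T.1 T.2)
  haveI := Fintype.ofFinite ↥(irreducibleComponents ↥Y)
  obtain ⟨Z, π, hπ, hs, hcov⟩ := exists_cover_points (Finset.univ.image g)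
  refine ⟨Z, π, hπ, ⟨fun y => hs (g ⟨_, irreducibleComponent_mem_irreducibleComponents y⟩)
    (Finset.mem_image_of_mem _ (Finset.mem_univ _)) ?_⟩, hcov⟩
  rw [(hg ⟨_, irreducibleComponent_mem_irreducibleComponents y⟩).def]
  exact mem_irreducibleComponent

end FinSurjLib
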