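import Groth.Agent.FlatLib.QFCover
import Mathlib

/-!
# Sections of quasi-finite flat algebras over absolutely integrally closed domains

Let `R` be a domain, `R̄` its integral closure in an algebraic closure of the fraction field and `C` a quasi-finite
`R`-algebra satisfying going down. Near every prime of `R̄` whose image is in the image of `Spec C` there is an
`R`-algebra map from `C` to a localisation of `R̄`.
-/

set_option autoImplicit false
set_option linter.style.haveILetI false

noncomputable section

universe u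

open TensorProduct

namespace FinSurjLib

/-- A domain integral over the absolutely integrally closed domain is trivial. -/
theorem algebraMap_surjective {R K D : Type u} [CommRing R] [Field K] [IsAlgClosed K] [Algebra R K]
    [CommRing D] [IsDomain D] [Algebra (integralClosure R K) D] [Algebra.IsIntegral (integralClosure R K) D]
    (hinj : Function.Injective (algebraMap (integralClosure R K) D)) :
    Function.Surjective (algebraMap (integralClosure R K) D) := by
  let O := integralClosure R K
  haveI : FaithfulSMul O D := (faithfulSMul_iff_algebraMap_injective O D).2 hinj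
  haveI : FaithfulSMul O K := (faithfulSMul_iff_algebraMap_injective O K).2 Subtype.val_injective
  letI : Algebra R D := ((algebraMap O D).comp (algebraMap R O)).toAlgebra
  haveI : IsScalarTower R O D := IsScalarTower.of_algebraMap_eq fun _ => rfl
  haveI : Algebra.IsIntegral R D := Algebra.IsIntegral.trans O
  let φ : D →ₐ[O] K := IsAlgClosed.lift
  have hker : RingHom.ker φ = ⊥ := Ideal.eq_bot_of_comap_eq_bot (R := O) (by
    show Ideal.comap (algebraMap O D) (RingHom.ker φ.toRingHom) = ⊥
    rw [RingHom.ker_eq_comap_bot, Ideal.comap_comap, ← RingHom.ker_eq_comap_bot]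
    show RingHom.ker ((φ : D →+* K).comp (algebraMap O D)) = ⊥
    rw [φ.comp_algebraMap]
    exact (RingHom.injective_iff_ker_eq_bot _).1 Subtype.val_injective)
  intro d
  have hd : IsIntegral R (φ d) :=
    IsIntegral.map (φ.restrictScalars R) (Algebra.IsIntegral.isIntegral (R := R) d)
  refine ⟨⟨φ d, hd⟩, (RingHom.injective_iff_ker_eq_bot φ.toRingHom).2 hker ?_⟩
  exact φ.commutes (⟨φ d, hd⟩ : O)

/-- A prime over the generic point of an integral algebra gives a retraction. -/
theorem exists_retraction {R K : Type u} [CommRing R] [Field K] [IsAlgClosed K] [Algebra R K]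
    {S : Type u} [CommRing S] [Algebra (integralClosure R K) S] [Algebra.IsIntegral (integralClosure R K) S]
    (η : Ideal S) [η.IsPrime] (hη : η.comap (algebraMap (integralClosure R K) S) = ⊥) :
    ∃ ψ : S →ₐ[integralClosure R K] integralClosure R K,
      ∀ s, s - algebraMap (integralClosure R K) S (ψ s) ∈ η := by
  let O := integralClosure R K
  have hinj : Function.Injective (algebraMap O (S ⧸ η)) := (injective_iff_map_eq_zero _).2 fun o ho => by
    rw [IsScalarTower.algebraMap_apply O S (S ⧸ η), Ideal.Quotient.algebraMap_eq,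
      Ideal.Quotient.eq_zero_iff_mem] at ho
    rw [← Ideal.mem_comap, hη] at ho
    exact ho
  let e : O ≃ₐ[O] (S ⧸ η) := AlgEquiv.ofBijective (Algebra.ofId O _) ⟨hinj, algebraMap_surjective hinj⟩
  refine ⟨e.symm.toAlgHom.comp (Ideal.Quotient.mkₐ O η), fun s => ?_⟩
  rw [← Ideal.Quotient.eq_zero_iff_mem, map_sub, sub_eq_zero]
  exact (e.apply_symm_apply _).symm

/-- A section near a prime. -/
theorem exists_hom_away {R K C : Type u} [CommRing R] [Field K] [IsAlgClosed K] [Algebra R K]
    [CommRing C] [Algebra R C] [Algebra.QuasiFinite R C] [Algebra.FiniteType R C] [Module.Flat R C]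
    (b : PrimeSpectrum (integralClosure R K))
    (hb : PrimeSpectrum.comap (algebraMap R (integralClosure R K)) b ∈
      Set.range (PrimeSpectrum.comap (algebraMap R C))) :
    ∃ f ∉ b.asIdeal, Nonempty (C →ₐ[R] Localization.Away f) := by
  let O := integralClosure R K
  let D := O ⊗[R] C
  obtain ⟨z, hz⟩ : b ∈ Set.range (PrimeSpectrum.comap (algebraMap O D)) := by
    obtain ⟨c, hc⟩ := hb
    rw [← PrimeSpectrum.nontrivial_iff_mem_rangeComap]
    let p := (PrimeSpectrum.comap (algebraMap R O) b).asIdeal
    haveI : Nontrivial (p.ResidueField ⊗[R] C) :=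
      (PrimeSpectrum.nontrivial_iff_mem_rangeComap _).2 ⟨c, hc⟩
    let φ : p.ResidueField →ₐ[R] b.asIdeal.ResidueField :=
      Ideal.ResidueField.mapₐ p b.asIdeal (Algebra.ofId R O) rfl
    letI := φ.toRingHom.toAlgebra
    haveI : IsScalarTower R p.ResidueField b.asIdeal.ResidueField :=
      IsScalarTower.of_algebraMap_eq fun r => (φ.commutes r).symm
    haveI : Nontrivial (b.asIdeal.ResidueField ⊗[p.ResidueField] (p.ResidueField ⊗[R] C)) := inferInstance
    haveI : Nontrivial (b.asIdeal.ResidueField ⊗[R] C) :=
      (Algebra.TensorProduct.cancelBaseChange R p.ResidueField b.asIdeal.ResidueField b.asIdeal.ResidueField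
        C).symm.toEquiv.nontrivial
    exact (Algebra.TensorProduct.cancelBaseChange R O b.asIdeal.ResidueField b.asIdeal.ResidueField
      C).toEquiv.nontrivial
  haveI hzb : z.asIdeal.LiesOver b.asIdeal := ⟨(congrArg PrimeSpectrum.asIdeal hz).symm⟩
  -- a generisation over the generic point
  obtain ⟨η, hηz, hη, hη0⟩ :=
    Ideal.exists_ideal_le_liesOver_of_le z.asIdeal (p := (⊥ : Ideal O)) (q := b.asIdeal) bot_le
  -- Zariski's main theorem
  obtain ⟨S₀, hS₀, r, hr, hbij⟩ :=
    Algebra.QuasiFiniteAt.exists_fg_and_exists_notMem_and_awayMap_bijective (R := O) z.asIdeal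
  haveI : Module.Finite O S₀ := ⟨(Submodule.fg_top _).mpr hS₀⟩
  haveI := hη
  let η₀ : Ideal S₀ := η.comap S₀.val
  haveI : η₀.IsPrime := Ideal.IsPrime.comap _
  haveI : Algebra.IsIntegral O S₀ := Algebra.IsIntegral.of_finite O S₀
  obtain ⟨ψ, hψ⟩ := exists_retraction (R := R) (K := K) (S := S₀) η₀ (by
    rw [show η₀ = η.comap S₀.val.toRingHom from rfl, Ideal.comap_comap]
    exact hη0.over.symm)
  have hψr : ψ r ∉ b.asIdeal := fun h => hr (by
    have h1 : algebraMap O D (ψ r) ∈ z.asIdeal := by
      have := hzb.over ▸ h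
      exact this
    have h2 := add_mem (hηz (hψ r)) h1
    have e : (r : D) = ((r - algebraMap O S₀ (ψ r) : S₀) : D) + algebraMap O D (ψ r) := (sub_add_cancel (r : D) _).symm
    rw [e]; exact h2)
  refine ⟨ψ r, hψr, ⟨?_⟩⟩
  let L := Localization.Away (ψ r)
  let β : Localization.Away r →ₐ[O] L :=
    IsLocalization.Away.liftAlgHom r (f := (Algebra.ofId O L).comp ψ) (IsLocalization.Away.algebraMap_isUnit (ψ r))
  let γ : Localization.Away r ≃ₐ[O] Localization.Away r.1 :=
    AlgEquiv.ofBijective (Localization.awayMapₐ S₀.val r) hbij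
  exact (((β.comp γ.symm.toAlgHom).comp (IsScalarTower.toAlgHom O D _)).restrictScalars R).comp
    Algebra.TensorProduct.includeRight

/-- A map to a localisation of a ring of an algebra of finite type is defined over a finitely generated
subalgebra. -/
theorem exists_hom_subalgebra {R O C : Type u} [CommRing R] [CommRing O] [Algebra R O] [CommRing C] [Algebra R C]
    [Algebra.FiniteType R C] (f : O) (φ : C →ₐ[R] Localization.Away f) :
    ∃ F : Finset O, ∀ (A : Subalgebra R O) (hf : f ∈ A), ↑F ⊆ (A : Set O) →
      Nonempty (C →ₐ[R] Localization.Away (⟨f, hf⟩ : A)) := by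
  classical
  obtain ⟨G, hG⟩ := (inferInstance : Algebra.FiniteType R C).out
  choose n a ha using fun c : C => IsLocalization.Away.surj f (φ c)
  refine ⟨G.image a, fun A hf hF => ?_⟩
  let fA : A := ⟨f, hf⟩
  let L := Localization.Away f
  let LA := Localization.Away fA
  let j : LA →ₐ[R] L := IsLocalization.Away.liftAlgHom fA
    (f := (IsScalarTower.toAlgHom R O L).comp A.val) (IsLocalization.Away.algebraMap_isUnit f)
  have hja : ∀ x : A, j (algebraMap A LA x) = algebraMap O L x := fun x => by simp [j]
  have hjinj : Function.Injective j := (injective_iff_map_eq_zero j).2 fun x hx => by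
    obtain ⟨k, y, hy⟩ := IsLocalization.Away.surj fA x
    have h1 := congrArg j hy
    rw [map_mul, hx, zero_mul, hja] at h1
    obtain ⟨⟨_, m, rfl⟩, hm⟩ := (IsLocalization.map_eq_zero_iff (Submonoid.powers f) L _).1 h1.symm
    have h2 : fA ^ m * y = 0 := Subtype.ext hm
    have hu : IsUnit (algebraMap A LA fA) := IsLocalization.Away.algebraMap_isUnit fA
    have h3 : algebraMap A LA y = 0 :=
      (IsLocalization.map_eq_zero_iff (Submonoid.powers fA) LA y).2 ⟨⟨_, m, rfl⟩, h2⟩
    rw [← hy] at h3
    exact (hu.pow k).mul_left_eq_zero.1 h3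
  have hrange : ∀ c, φ c ∈ j.range := fun c => by
    suffices (⊤ : Subalgebra R C) ≤ j.range.comap φ from this trivial
    rw [← hG, Algebra.adjoin_le_iff]
    intro c hc
    have hac : a c ∈ A := hF (Finset.mem_coe.2 (Finset.mem_image_of_mem a hc))
    obtain ⟨u, hu⟩ := (IsLocalization.Away.algebraMap_isUnit fA : IsUnit (algebraMap A LA fA))
    refine ⟨algebraMap A LA ⟨a c, hac⟩ * ((↑u⁻¹ : LA) ^ n c), ?_⟩
    have h1 : j (↑u⁻¹ : LA) * algebraMap O L f = 1 := by
      rw [← hja fA, ← hu, ← map_mul, Units.inv_mul, map_one]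
    show j _ = φ c
    rw [map_mul, map_pow, hja]
    show algebraMap O L (a c) * _ = _
    rw [← ha c, mul_assoc, mul_comm (algebraMap O L f ^ n c), ← mul_pow, h1, one_pow, mul_one]
  exact ⟨(AlgEquiv.ofInjective j hjinj).symm.toAlgHom.comp (φ.codRestrict j.range hrange)⟩

/-- A finite domain extension over which a quasi-finite flat cover has local sections. -/
theorem exists_finite_domain {R C : Type u} [CommRing R] [CommRing C] [Algebra R C] [Algebra.QuasiFinite R C]
    [Algebra.FiniteType R C] [Module.FaithfullyFlat R C] (p : Ideal R) [p.IsPrime] :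
    ∃ (A : Type u) (_ : CommRing A) (_ : Algebra R A), Module.Finite R A ∧
      p ∈ Set.range (fun t : PrimeSpectrum A => t.asIdeal.comap (algebraMap R A)) ∧
      RingHom.ker (algebraMap R A) = p ∧
      (∀ t : PrimeSpectrum A, ∃ f ∉ t.asIdeal, Nonempty (C →ₐ[R] Localization.Away f)) := by
  classical
  let K := AlgebraicClosure p.ResidueField
  let O := integralClosure R K
  have hker : RingHom.ker (algebraMap R O) = p := by
    ext r
    rw [RingHom.mem_ker, ← ZeroMemClass.coe_eq_zero]
    show algebraMap R K r = 0 ↔ r ∈ p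
    rw [IsScalarTower.algebraMap_apply R p.ResidueField K, map_eq_zero_iff _ (RingHom.injective _),
      Ideal.algebraMap_residueField_eq_zero]
  choose f hf φ using fun b : PrimeSpectrum O => exists_hom_away (C := C) b
    (PrimeSpectrum.comap_surjective_of_faithfullyFlat _)
  obtain ⟨s, hs⟩ := (isCompact_univ (X := PrimeSpectrum O)).elim_finite_subcover
    (fun b => (PrimeSpectrum.basicOpen (f b) : Set (PrimeSpectrum O))) (fun b => (PrimeSpectrum.basicOpen _).2)
    (fun b _ => Set.mem_iUnion.2 ⟨b, hf b⟩)
  choose F hF using fun b : PrimeSpectrum O => exists_hom_subalgebra (f b) (Classical.choice (φ b))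
  let T : Finset O := s.image f ∪ s.biUnion F
  let A : Subalgebra R O := Algebra.adjoin R (T : Set O)
  haveI : Module.Finite R A := ⟨(Submodule.fg_top _).2
    (fg_adjoin_of_finite T.finite_toSet fun x _ => Algebra.IsIntegral.isIntegral x)⟩
  have hO : Algebra.IsIntegral A O := Algebra.IsIntegral.tower_top (R := R)
  have hkerA : RingHom.ker (algebraMap R A) = p := by
    refine Eq.trans ?_ hker
    ext r
    rw [RingHom.mem_ker, RingHom.mem_ker, ← ZeroMemClass.coe_eq_zero]
    rfl
  refine ⟨A, inferInstance, inferInstance, inferInstance, ⟨⟨⊥, Ideal.isPrime_bot⟩, ?_⟩, hkerA, fun t => ?_⟩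
  · exact (RingHom.ker_eq_comap_bot _).symm.trans hkerA
  · haveI : FaithfulSMul A O := (faithfulSMul_iff_algebraMap_injective A O).2 Subtype.val_injective
    obtain ⟨b, hb⟩ := Algebra.IsIntegral.comap_surjective A O t
    obtain ⟨b', hb's, hbb'⟩ := Set.mem_iUnion₂.1 (hs (Set.mem_univ b))
    have hmem : f b' ∈ A := Algebra.subset_adjoin (Finset.mem_coe.2
      (Finset.mem_union_left _ (Finset.mem_image_of_mem f hb's)))
    refine ⟨⟨f b', hmem⟩, fun h => hbb' ?_, hF b' A hmem fun x hx => Algebra.subset_adjoin
      (Finset.mem_coe.2 (Finset.mem_union_right _ (Finset.mem_biUnion.2 ⟨b', hb's, hx⟩)))⟩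
    rw [← hb] at h
    exact h

end FinSurjLib
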