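import Groth.Agent.FinSurjLib.Main
import Groth.Agent.NoethApproxLib.Stage2076
import Mathlib

/-!
# Extending finite morphisms from quasi-compact opens
-/

set_option autoImplicit false
set_option linter.style.haveILetI false

noncomputable section

universe u

open AlgebraicGeometry CategoryTheory Limits Opposite

namespace FinSurjLib

/-- An integral morphism is a limit of finite morphisms of finite presentation. -/
theorem exists_finite_diagram {Z S : Scheme.{u}} (π : Z ⟶ S) [IsIntegralHom π] [CompactSpace S]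
    [QuasiSeparatedSpace S] :
    ∃ (I : Type u) (_ : SmallCategory I) (_ : IsCofiltered I) (D : I ⥤ Scheme.{u})
      (t : D ⟶ (Functor.const I).obj S) (c : Cone D) (_ : IsLimit c) (e : c.pt ≅ Z),
      (∀ i, IsFinite (t.app i)) ∧ (∀ i, LocallyOfFinitePresentation (t.app i)) ∧
      (∀ {i j : I} (a : i ⟶ j), IsAffineHom (D.map a)) ∧ (∀ i, CompactSpace (D.obj i)) ∧
      (∀ i, QuasiSeparatedSpace (D.obj i)) ∧ ∀ i, c.π.app i ≫ t.app i = e.hom ≫ π := by
  obtain ⟨J, _, _, _, D, c, hc, hD, ⟨e⟩⟩ := Groth.Agent.S7382.result π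
  haveI : IsConnected Jᵒᵖ := IsCofiltered.isConnected _
  let F := D ⋙ Over.forget S
  let t : F ⟶ (Functor.const Jᵒᵖ).obj S :=
    { app := fun i ↦ (D.obj i).hom
      naturality := fun i j a ↦ (Over.w (D.map a)).trans (Category.comp_id _).symm }
  haveI hfin : ∀ i, IsFinite (t.app i) := fun i ↦ (hD i).1
  refine ⟨Jᵒᵖ, inferInstance, inferInstance, F, t, (Over.forget S).mapCone c,
    isLimitOfPreserves (Over.forget S) hc, (Over.forget S).mapIso e, hfin, fun i ↦ (hD i).2,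
    fun {i j} a ↦ isAffineHom_of_w (Y := S) (F.map a) (t.app i) (t.app j) (Over.w (D.map a)),
    fun i ↦ QuasiCompact.compactSpace_of_compactSpace (Y := S) (t.app i),
    fun i ↦ quasiSeparatedSpace_of_quasiSeparated (Y := S) (t.app i), fun i ↦ ?_⟩
  exact (Over.w (c.π.app i)).trans (Over.w e.hom).symm

/-- A finite morphism onto a quasi-compact open extends to a finite morphism onto the whole scheme. -/
theorem exists_finite_extension {S V : Scheme.{u}} [CompactSpace S] [QuasiSeparatedSpace S] (U : S.Opens)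
    (hU : IsCompact (U : Set S)) (v : V ⟶ (U : Scheme.{u})) [IsFinite v] [Surjective v] :
    ∃ (V' : Scheme.{u}) (π : V' ⟶ S) (i : V ⟶ V'), Surjective π ∧ IsFinite π ∧ IsPullback i v π U.ι := by
  haveI : CompactSpace (U : Scheme.{u}) := isCompact_iff_compactSpace.mp hU
  haveI : QuasiCompact U.ι := inferInstance
  haveI : CompactSpace V := QuasiCompact.compactSpace_of_compactSpace v
  obtain ⟨Z, π, _, -, q, hq⟩ := exists_integral_extension U v
  obtain ⟨I, _, _, D, t, c, hc, e, hfin, hfp, haff, hcs, hqs, hcomp⟩ := exists_finite_diagram π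
  obtain ⟨i₀⟩ := IsCofiltered.nonempty (C := I)
  let V₀ : (D.obj i₀).Opens := t.app i₀ ⁻¹ᵁ U
  have hV₀ : IsCompact (V₀ : Set (D.obj i₀)) :=
    haveI := hfin i₀
    QuasiCompact.isCompact_preimage (f := t.app i₀) _ U.2 hU
  let OD := opensDiagram D i₀ V₀
  let OC := opensCone D c i₀ V₀
  haveI : ∀ j, CompactSpace (OD.obj j) := fun j ↦ isCompact_iff_compactSpace.mp
    (QuasiCompact.isCompact_preimage (f := D.map j.hom) _ V₀.2 hV₀)
  haveI : ∀ {j k : Over i₀} (a : j ⟶ k), IsAffineHom (OD.map a) := fun {j k} a ↦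
    isAffineHom_resLE (D.map a.left) _ (by
      show D.map j.hom ⁻¹ᵁ V₀ = D.map a.left ⁻¹ᵁ (D.map k.hom ⁻¹ᵁ V₀)
      conv_rhs => rw [← Scheme.Hom.comp_preimage (D.map a.left) (D.map k.hom) V₀, ← D.map_comp, Over.w a])
  -- the limit of the open pieces is the given scheme
  have hpre : c.π.app i₀ ⁻¹ᵁ V₀ = e.hom ⁻¹ᵁ (π ⁻¹ᵁ U) := by
    show c.π.app i₀ ⁻¹ᵁ (t.app i₀ ⁻¹ᵁ U) = _
    rw [← Scheme.Hom.comp_preimage, hcomp i₀]
    rfl
  let ε : ((c.π.app i₀ ⁻¹ᵁ V₀ : c.pt.Opens) : Scheme.{u}) ≅ V := (c.pt.isoOfEq hpre) ≪≫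
    asIso (e.hom ∣_ (π ⁻¹ᵁ U)) ≪≫ q
  have hε : ε.hom ≫ v ≫ U.ι = (c.π.app i₀ ⁻¹ᵁ V₀).ι ≫ e.hom ≫ π := by
    show ((c.pt.isoOfEq hpre).hom ≫ (e.hom ∣_ (π ⁻¹ᵁ U)) ≫ q.hom) ≫ v ≫ U.ι = _
    simp only [Category.assoc, hq, morphismRestrict_ι_assoc, Scheme.isoOfEq_hom_ι_assoc]
  let t' : ∀ j : Over i₀, OD.obj j ⟶ S := fun j ↦ (D.map j.hom ⁻¹ᵁ V₀).ι ≫ t.app j.left
  obtain ⟨j, hj⟩ := NoethApproxLib.exists_isClosedImmersion_comp OD t' (fun {j k} a ↦ by
    show (D.map a.left).resLE _ _ _ ≫ (D.map k.hom ⁻¹ᵁ V₀).ι ≫ t.app k.left = _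
    rw [Scheme.Hom.resLE_comp_ι_assoc]
    congr 1
    exact (t.naturality a.left).trans (Category.comp_id _)) OC (isLimitOpensCone D c hc i₀ V₀) ε.inv (fun j ↦ by
      show LocallyOfFiniteType (ε.inv ≫ (c.π.app j.left).resLE _ _ _ ≫ (D.map j.hom ⁻¹ᵁ V₀).ι ≫ t.app j.left)
      rw [Scheme.Hom.resLE_comp_ι_assoc, hcomp]
      have : ε.inv ≫ (c.π.app i₀ ⁻¹ᵁ V₀).ι ≫ e.hom ≫ π = v ≫ U.ι := by rw [← hε, Iso.inv_hom_id_assoc]
      exact this.symm ▸ inferInstance)
  haveI hcl : IsClosedImmersion (ε.inv ≫ OC.π.app j) := hj j (𝟙 j)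
  let W : (D.obj j.left).Opens := D.map j.hom ⁻¹ᵁ V₀
  have hW : W = t.app j.left ⁻¹ᵁ U := by
    show D.map j.hom ⁻¹ᵁ (t.app i₀ ⁻¹ᵁ U) = _
    rw [← Scheme.Hom.comp_preimage, (t.naturality j.hom).trans (Category.comp_id _)]
  haveI : QuasiCompact W.ι := by
    haveI : CompactSpace (W : Scheme.{u}) := isCompact_iff_compactSpace.mp
      (QuasiCompact.isCompact_preimage (f := D.map j.hom) _ V₀.2 hV₀)
    infer_instance
  let l : V ⟶ (W : Scheme.{u}) := ε.inv ≫ OC.π.app j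
  haveI : IsClosedImmersion l := hcl
  let κ : V ⟶ D.obj j.left := l ≫ W.ι
  have hκ : κ ≫ t.app j.left = v ≫ U.ι := by
    show ((ε.inv ≫ (c.π.app j.left).resLE _ _ _) ≫ W.ι) ≫ _ = _
    rw [Category.assoc ε.inv, Scheme.Hom.resLE_comp_ι, Category.assoc, Category.assoc, hcomp, ← hε,
      Iso.inv_hom_id_assoc]
  haveI := hfin j.left
  haveI : IsFinite (κ.imageι ≫ t.app j.left) := by
    haveI : IsFinite κ.imageι := ((IsClosedImmersion.iff_isFinite_and_mono _).mp inferInstance).1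
    infer_instance
  let K := Scheme.IdealSheafData.vanishingIdeal ⟨(U : Set S)ᶜ, U.2.isClosed_compl⟩
  haveI : IsFinite K.subschemeι := ((IsClosedImmersion.iff_isFinite_and_mono _).mp inferInstance).1
  let π' : κ.image ⨿ K.subscheme ⟶ S := coprod.desc (κ.imageι ≫ t.app j.left) K.subschemeι
  let inl : κ.image ⟶ κ.image ⨿ K.subscheme := coprod.inl
  have hi : (κ.toImage ≫ inl) ≫ π' = v ≫ U.ι := by
    rw [Category.assoc, coprod.inl_desc, Scheme.Hom.toImage_imageι_assoc, hκ]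
  refine ⟨_, π', κ.toImage ≫ inl, ⟨fun s => ?_⟩, inferInstance, ?_⟩
  · by_cases hs : s ∈ U
    · obtain ⟨x, hx⟩ := v.surjective ⟨s, hs⟩
      refine ⟨(κ.toImage ≫ inl) x, ?_⟩
      rw [← Scheme.Hom.comp_apply, hi, Scheme.Hom.comp_apply, hx]
      rfl
    · obtain ⟨z, hz⟩ : ∃ z, K.subschemeι z = s := by
        refine (Scheme.IdealSheafData.range_subschemeι K).ge ?_
        rw [Scheme.IdealSheafData.coe_support_vanishingIdeal]
        exact hs
      exact ⟨coprod.inr (C := Scheme.{u}) (X := κ.image) (Y := K.subscheme) z,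
        by rw [← Scheme.Hom.comp_apply, coprod.inr_desc]; exact hz⟩
  refine (IsOpenImmersion.isPullback v (κ.toImage ≫ inl) U.ι π' hi ?_).flip
  refine le_antisymm (fun z hz => ?_) ?_
  · have hz : π' z ∈ U := by simpa using hz
    rcases (isCompl_range_inl_inr κ.image K.subscheme).codisjoint.top_le (Set.mem_univ z) with ⟨w, rfl⟩ | ⟨w, rfl⟩
    · have hw : t.app j.left (κ.imageι w) ∈ U := by
        rwa [← Scheme.Hom.comp_apply, coprod.inl_desc, Scheme.Hom.comp_apply] at hz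
      have hwW : κ.imageι w ∈ W := by rw [hW]; exact hw
      have hcl' : κ.imageι w ∈ closure (Set.range κ) := by
        have h1 := (Scheme.IdealSheafData.range_subschemeι κ.ker).le (Set.mem_range_self w)
        rwa [Scheme.Hom.support_ker] at h1
      obtain ⟨x, hx⟩ : (⟨κ.imageι w, hwW⟩ : (W : Scheme.{u})) ∈ Set.range l := by
        rw [← l.isClosedEmbedding.isClosed_range.closure_eq]
        refine (Topology.IsInducing.closure_eq_preimage_closure_image W.ι.isEmbedding.isInducing _).ge ?_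
        rw [Set.mem_preimage, ← Set.range_comp]
        exact hcl'
      refine ⟨x, ?_⟩
      show inl (κ.toImage x) = inl w
      congr 1
      apply κ.imageι.isEmbedding.injective
      rw [← Scheme.Hom.comp_apply, Scheme.Hom.toImage_imageι]
      show W.ι (l x) = _
      rw [hx]
      rfl
    · exfalso
      have h1 := (Scheme.IdealSheafData.range_subschemeι K).le (Set.mem_range_self w)
      rw [Scheme.IdealSheafData.coe_support_vanishingIdeal] at h1
      refine h1 ?_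
      rwa [← Scheme.Hom.comp_apply, coprod.inr_desc] at hz
  · rintro _ ⟨x, rfl⟩
    show π' ((κ.toImage ≫ inl) x) ∈ U.ι.opensRange
    rw [← Scheme.Hom.comp_apply, hi, Scheme.Hom.comp_apply]
    exact ⟨_, rfl⟩

end FinSurjLib
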