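import Groth.Agent.FinSurjLib.Main
import Mathlib

/-!
# Closed subschemes of limits are limits of their scheme-theoretic images
-/

set_option autoImplicit false
set_option linter.style.haveILetI false

noncomputable section

universe u

open AlgebraicGeometry CategoryTheory Limits Opposite

namespace FinSurjLib

section

variable {I : Type u} [SmallCategory I] [IsCofiltered I] (D : I ⥤ Scheme.{u}) (c : Cone D) (hc : IsLimit c)
  [∀ {i j : I} (a : i ⟶ j), IsAffineHom (D.map a)] [∀ i, CompactSpace (D.obj i)]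
  [∀ i, QuasiSeparatedSpace (D.obj i)] {G : Scheme.{u}} (ι : G ⟶ c.pt) [CompactSpace G]

/-- The scheme-theoretic image at a stage. -/
abbrev imgAt (i : I) : Scheme.{u} := (ι ≫ c.π.app i).image

abbrev imgιAt (i : I) : imgAt D c ι i ⟶ D.obj i := (ι ≫ c.π.app i).imageι

instance imgιAt_closed (i : I) : IsClosedImmersion (imgιAt D c ι i) :=
  inferInstanceAs (IsClosedImmersion (ι ≫ c.π.app i).ker.subschemeι)

theorem imgιAt_ker_le {i j : I} (a : j ⟶ i) :
    (imgιAt D c ι i).ker ≤ (imgιAt D c ι j ≫ D.map a).ker := by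
  haveI : QuasiCompact (ι ≫ c.π.app i) := inferInstance
  haveI : QuasiCompact (ι ≫ c.π.app j) := inferInstance
  rw [show (imgιAt D c ι i).ker = (ι ≫ c.π.app i).ker from Scheme.IdealSheafData.ker_subschemeι _]
  haveI : QuasiCompact (imgιAt D c ι j ≫ D.map a) := inferInstance
  intro U x hx
  have hV : IsAffineOpen (D.map a ⁻¹ᵁ U.1) := U.2.preimage _
  rw [Scheme.Hom.ker_apply, RingHom.mem_ker] at hx ⊢
  have h1 : (D.map a).app U.1 x ∈ (ι ≫ c.π.app j).ker.ideal ⟨D.map a ⁻¹ᵁ U.1, hV⟩ := by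
    rw [Scheme.Hom.ker_apply, RingHom.mem_ker]
    have e : ((ι ≫ c.π.app j) ≫ D.map a).app U.1 x = 0 := by
      rw [Scheme.Hom.congr_app ((Category.assoc _ _ _).trans (congrArg (ι ≫ ·) (c.w a))) U.1]
      show (G.presheaf.map _) ((ι ≫ c.π.app i).app U.1 x) = 0
      rw [hx, map_zero]
    exact e
  rw [← Scheme.IdealSheafData.ker_subschemeι (ι ≫ c.π.app j).ker, Scheme.Hom.ker_apply,
    RingHom.mem_ker] at h1
  exact h1

/-- The transition maps of the images. -/
def imgMapAt {i j : I} (a : j ⟶ i) : imgAt D c ι j ⟶ imgAt D c ι i :=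
  IsClosedImmersion.lift (imgιAt D c ι i) (imgιAt D c ι j ≫ D.map a) (imgιAt_ker_le D c ι a)

@[reassoc]
theorem imgMapAt_ι {i j : I} (a : j ⟶ i) :
    imgMapAt D c ι a ≫ imgιAt D c ι i = imgιAt D c ι j ≫ D.map a := IsClosedImmersion.lift_fac _ _ _

/-- The diagram of images. -/
def imgDiagram : I ⥤ Scheme.{u} where
  obj i := imgAt D c ι i
  map a := imgMapAt D c ι a
  map_id i := by
    rw [← cancel_mono (imgιAt D c ι i), imgMapAt_ι, D.map_id, Category.comp_id, Category.id_comp]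
  map_comp {i j k} a b := by
    rw [← cancel_mono (imgιAt D c ι k), imgMapAt_ι, Category.assoc, imgMapAt_ι, imgMapAt_ι_assoc,
      D.map_comp]

/-- The cone of the diagram of images. -/
def imgCone : Cone (imgDiagram D c ι) where
  pt := G
  π :=
    { app := fun i ↦ (ι ≫ c.π.app i).toImage
      naturality := fun i j a ↦ by
        show 𝟙 G ≫ (ι ≫ c.π.app j).toImage = (ι ≫ c.π.app i).toImage ≫ imgMapAt D c ι a
        rw [Category.id_comp, ← cancel_mono (imgιAt D c ι j), Category.assoc, imgMapAt_ι,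
          Scheme.Hom.toImage_imageι, Scheme.Hom.toImage_imageι_assoc, Category.assoc, c.w] }

instance imgDiagram_compact (i : I) : CompactSpace ((imgDiagram D c ι).obj i) :=
  have h : CompactSpace (imgAt D c ι i) :=
    QuasiCompact.compactSpace_of_compactSpace (imgιAt D c ι i)
  h

instance imgDiagram_qsep (i : I) : QuasiSeparatedSpace ((imgDiagram D c ι).obj i) :=
  have h : QuasiSeparatedSpace (imgAt D c ι i) := quasiSeparatedSpace_of_quasiSeparated (imgιAt D c ι i)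
  h

instance imgDiagram_affine {i j : I} (a : i ⟶ j) : IsAffineHom ((imgDiagram D c ι).map a) := by
  haveI : IsAffineHom (imgMapAt D c ι a ≫ imgιAt D c ι j) := by rw [imgMapAt_ι]; infer_instance
  exact IsAffineHom.of_comp (imgMapAt D c ι a) (imgιAt D c ι j)

include hc in
theorem ker_le_of_factors_stages {T : Scheme.{u}} (m : T ⟶ c.pt) [IsClosedImmersion ι]
    (h : ∀ i, ∃ l, l ≫ imgιAt D c ι i = m ≫ c.π.app i) : ι.ker ≤ m.ker := by
  refine Scheme.IdealSheafData.le_ofIdeals_iff.mpr fun U a ha ↦ ?_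
  obtain ⟨U, hU⟩ := U
  obtain ⟨j, O, hO, rfl⟩ := exists_isAffineOpen_preimage_eq D c hc U hU
  haveI hA : ∀ k, IsAffine ((opensDiagram D j O).obj k) := fun k ↦ hO.preimage (D.map k.hom)
  obtain ⟨k, b, hb⟩ := exists_appTop_π_eq_of_isAffine_of_isLimit (opensDiagram D j O)
    (opensCone D c j O) (isLimitOpensCone D c hc j O)
    ((c.π.app j ⁻¹ᵁ O).topIso.inv a)
  let O' : (D.obj k.left).Opens := D.map k.hom ⁻¹ᵁ O
  have hle : c.π.app j ⁻¹ᵁ O ≤ c.π.app k.left ⁻¹ᵁ O' := by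
    show _ ≤ c.π.app k.left ⁻¹ᵁ (D.map k.hom ⁻¹ᵁ O)
    rw [← Scheme.Hom.comp_preimage, c.w]
  let b' : Γ(D.obj k.left, O') := O'.topIso.hom b
  have hb' : (c.π.app k.left).appLE O' _ hle b' = a := by
    refine (ConcreteCategory.bijective_of_isIso (C := CommRingCat)
      (c.π.app j ⁻¹ᵁ O).topIso.inv).1 ?_
    rw [← hb]
    have e : ((opensCone D c j O).π.app k).appTop = O'.topIso.hom ≫
        (c.π.app k.left).appLE O' _ hle ≫ (c.π.app j ⁻¹ᵁ O).topIso.inv :=
      Scheme.Hom.resLE_app_top _ _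
    rw [e]
    rfl
  haveI : QuasiCompact (ι ≫ c.π.app k.left) := inferInstance
  rw [Scheme.Hom.ker_apply, RingHom.mem_ker] at ha
  have hmem : b' ∈ (ι ≫ c.π.app k.left).ker.ideal ⟨O', hO.preimage (D.map k.hom)⟩ := by
    rw [Scheme.Hom.ker_apply, RingHom.mem_ker]
    have hle' : (ι ≫ c.π.app k.left) ⁻¹ᵁ O' ≤ ι ⁻¹ᵁ (c.π.app j ⁻¹ᵁ O) := by
      show (ι ≫ c.π.app k.left) ⁻¹ᵁ (D.map k.hom ⁻¹ᵁ O) ≤ _
      rw [← Scheme.Hom.comp_preimage, Category.assoc, c.w, Scheme.Hom.comp_preimage]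
    have e : (ι ≫ c.π.app k.left).app O' =
        (c.π.app k.left).appLE O' _ hle ≫ ι.app _ ≫ G.presheaf.map (homOfLE hle').op := by
      rw [Scheme.Hom.app_eq_appLE ι, Scheme.Hom.appLE_map, Scheme.Hom.appLE_comp_appLE,
        Scheme.Hom.app_eq_appLE]
    rw [e, CommRingCat.comp_apply, CommRingCat.comp_apply, hb', ha, map_zero]
  rw [← Scheme.IdealSheafData.ker_subschemeι (ι ≫ c.π.app k.left).ker, Scheme.Hom.ker_apply,
    RingHom.mem_ker] at hmem
  obtain ⟨l, hl⟩ := h k.left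
  rw [RingHom.mem_ker]
  have hle'' : m ⁻¹ᵁ (c.π.app j ⁻¹ᵁ O) ≤ (m ≫ c.π.app k.left) ⁻¹ᵁ O' := by
    show _ ≤ (m ≫ c.π.app k.left) ⁻¹ᵁ (D.map k.hom ⁻¹ᵁ O)
    rw [← Scheme.Hom.comp_preimage m, ← Scheme.Hom.comp_preimage, Category.assoc, c.w]
  rw [← hb']
  show ((c.π.app k.left).appLE O' _ hle ≫ m.app _) b' = 0
  rw [Scheme.Hom.app_eq_appLE m, Scheme.Hom.appLE_comp_appLE]
  have e2 : (m ≫ c.π.app k.left).appLE O' _ hle'' =
      (imgιAt D c ι k.left).app O' ≫
        l.appLE _ _ (hle''.trans (by rw [← hl, Scheme.Hom.comp_preimage])) := by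
    rw [Scheme.Hom.app_eq_appLE, Scheme.Hom.appLE_comp_appLE]
    have key : ∀ (n : T ⟶ D.obj k.left), n = m ≫ c.π.app k.left → ∀ h1 h2,
        (m ≫ c.π.app k.left).appLE O' (m ⁻¹ᵁ (c.π.app j ⁻¹ᵁ O)) h1 = n.appLE O' _ h2 := by
      rintro _ rfl h1 h2
      rfl
    exact key _ hl _ _
  rw [e2, CommRingCat.comp_apply]
  show l.appLE _ _ _ ((imgιAt D c ι k.left).app O' b') = 0
  rw [show (imgιAt D c ι k.left).app O' b' = 0 from hmem, map_zero]

/-- A closed subscheme of a limit is the limit of its images. -/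
def isLimitImgCone [hι : IsClosedImmersion ι] : IsLimit (imgCone D c ι) :=
  let up : ∀ s : Cone (imgDiagram D c ι), Cone D := fun s ↦
    { pt := s.pt
      π :=
        { app := fun i ↦ s.π.app i ≫ imgιAt D c ι i
          naturality := fun i j a ↦ by
            show 𝟙 s.pt ≫ s.π.app j ≫ imgιAt D c ι j = (s.π.app i ≫ imgιAt D c ι i) ≫ D.map a
            rw [Category.id_comp, Category.assoc]
            refine Eq.trans ?_ (congrArg (fun z ↦ s.π.app i ≫ z) (imgMapAt_ι D c ι a))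
            refine Eq.trans ?_ (Category.assoc _ _ _)
            exact congrArg (fun z ↦ z ≫ imgιAt D c ι j) (s.w a).symm } }
  have hker : ∀ s : Cone (imgDiagram D c ι), ι.ker ≤ (hc.lift (up s)).ker := fun s ↦
    ker_le_of_factors_stages D c hc ι _ fun i ↦ ⟨s.π.app i, (hc.fac (up s) i).symm⟩
  { lift := fun s ↦ (IsClosedImmersion.lift ι (hc.lift (up s)) (hker s) : s.pt ⟶ G)
    fac := fun s i ↦ by
      refine (cancel_mono (imgιAt D c ι i)).1 ?_
      haveI := hι
      show (IsClosedImmersion.lift ι _ (hker s) ≫ (ι ≫ c.π.app i).toImage) ≫ (ι ≫ c.π.app i).imageι = _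
      rw [Category.assoc, Scheme.Hom.toImage_imageι, IsClosedImmersion.lift_fac_assoc]
      exact hc.fac (up s) i
    uniq := fun s m hm ↦ by
      refine (cancel_mono ι).1 (Eq.trans ?_ (IsClosedImmersion.lift_fac ι _ (hker s)).symm)
      refine hc.uniq (up s) (m ≫ ι) fun i ↦ ?_
      show (m ≫ ι) ≫ c.π.app i = s.π.app i ≫ imgιAt D c ι i
      rw [← hm i, Category.assoc]
      show _ = (m ≫ (ι ≫ c.π.app i).toImage) ≫ (ι ≫ c.π.app i).imageι
      refine Eq.trans ?_ (Category.assoc _ _ _).symm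
      exact congrArg (fun z ↦ m ≫ z) (Scheme.Hom.toImage_imageι (ι ≫ c.π.app i)).symm }

end

end FinSurjLib
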