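import Groth.Agent.FinSurjLib.Local
import Mathlib

/-!
# Integral surjective covers dominated by an fppf morphism
-/

set_option autoImplicit false
set_option linter.style.haveILetI false

noncomputable section

universe u

open AlgebraicGeometry CategoryTheory Limits

namespace FinSurjLib

/-- A scheme integral surjective over a quasi-compact open extends to an integral surjective scheme over the
whole base whose restriction maps to it. -/
theorem exists_integral_extension {S V : Scheme.{u}} (U : S.Opens) (v : V ⟶ (U : Scheme.{u}))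
    [IsIntegralHom v] [Surjective v] [QuasiCompact U.ι] :
    ∃ (Z : Scheme.{u}) (π : Z ⟶ S), IsIntegralHom π ∧ Surjective π ∧
      ∃ q : ((π ⁻¹ᵁ U : Z.Opens) : Scheme.{u}) ≅ V, q.hom ≫ v ≫ U.ι = (π ⁻¹ᵁ U).ι ≫ π := by
  let f : V ⟶ S := v ≫ U.ι
  have sq : IsPullback (𝟙 V) v f U.ι := IsPullback.of_horiz_isIso_mono ⟨Category.id_comp _⟩
  haveI : IsIntegralHom (pullback.snd f U.ι) := by
    have h : pullback.snd f U.ι = sq.isoPullback.inv ≫ v := by
      rw [IsPullback.isoPullback_inv_snd]
    rw [h]; infer_instance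
  let m : V ⟶ pullback f.fromNormalization U.ι :=
    sq.isoPullback.hom ≫ (pullback.snd f U.ι).toNormalization ≫ f.normalizationPullback U.ι
  haveI : IsIso m := inferInstance
  have hm : m ≫ pullback.snd f.fromNormalization U.ι = v := by
    simp only [m, Category.assoc, Scheme.Hom.normalizationPullback_snd,
      Scheme.Hom.toNormalization_fromNormalization, IsPullback.isoPullback_hom_snd]
  let K := Scheme.IdealSheafData.vanishingIdeal ⟨(U : Set S)ᶜ, U.2.isClosed_compl⟩
  let π : f.normalization ⨿ K.subscheme ⟶ S := coprod.desc f.fromNormalization K.subschemeι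
  have hK : ∀ s : S, s ∉ U → ∃ z, K.subschemeι z = s := fun s hs => by
    have h := (Scheme.IdealSheafData.range_subschemeι K).ge
    refine h ?_
    rw [Scheme.IdealSheafData.coe_support_vanishingIdeal]
    exact hs
  refine ⟨_, π, inferInstance, ⟨fun s => ?_⟩, ?_⟩
  · by_cases hs : s ∈ U
    · obtain ⟨x, hx⟩ := v.surjective ⟨s, hs⟩
      refine ⟨coprod.inl (C := Scheme.{u}) (X := f.normalization) (Y := K.subscheme) (f.toNormalization x), ?_⟩
      rw [← Scheme.Hom.comp_apply, ← Scheme.Hom.comp_apply, coprod.inl_desc,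
        f.toNormalization_fromNormalization, Scheme.Hom.comp_apply, hx]
      rfl
    · obtain ⟨z, hz⟩ := hK s hs
      exact ⟨coprod.inr (C := Scheme.{u}) (X := f.normalization) (Y := K.subscheme) z,
        by rw [← Scheme.Hom.comp_apply, coprod.inr_desc]; exact hz⟩
  let inl : f.normalization ⟶ f.normalization ⨿ K.subscheme := coprod.inl
  have hrange : Set.range (π ⁻¹ᵁ U).ι ⊆ Set.range inl := by
    rw [Scheme.Opens.range_ι]
    intro z hz
    rcases (isCompl_range_inl_inr f.normalization K.subscheme).codisjoint.top_le (Set.mem_univ z) with h | h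
    · exact h
    · exfalso
      obtain ⟨w, rfl⟩ := h
      have hw := (Scheme.IdealSheafData.range_subschemeι K).le (Set.mem_range_self w)
      rw [Scheme.IdealSheafData.coe_support_vanishingIdeal] at hw
      refine hw ?_
      have : (π (coprod.inr (C := Scheme.{u}) (X := f.normalization) (Y := K.subscheme) w)) ∈ U := hz
      rwa [← Scheme.Hom.comp_apply, coprod.inr_desc] at this
  let l : ((π ⁻¹ᵁ U : _) : Scheme.{u}) ⟶ f.normalization := IsOpenImmersion.lift inl (π ⁻¹ᵁ U).ι hrange
  have hl : l ≫ f.fromNormalization = (π ∣_ U) ≫ U.ι := by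
    rw [morphismRestrict_ι, ← IsOpenImmersion.lift_fac inl (π ⁻¹ᵁ U).ι hrange, Category.assoc, coprod.inl_desc]
  have hlι : l ≫ inl = (π ⁻¹ᵁ U).ι := IsOpenImmersion.lift_fac _ _ _
  haveI : IsIso (pullback.lift l (π ∣_ U) hl) := by
    have hk : Set.range (pullback.fst f.fromNormalization U.ι ≫ inl) ⊆ Set.range (π ⁻¹ᵁ U).ι := by
      rw [Scheme.Opens.range_ι]
      rintro _ ⟨z, rfl⟩
      show π (inl (pullback.fst f.fromNormalization U.ι z)) ∈ U
      rw [← Scheme.Hom.comp_apply, coprod.inl_desc, ← Scheme.Hom.comp_apply, pullback.condition,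
        Scheme.Hom.comp_apply]
      exact (pullback.snd f.fromNormalization U.ι z).2
    let k := IsOpenImmersion.lift (π ⁻¹ᵁ U).ι (pullback.fst f.fromNormalization U.ι ≫ inl) hk
    have hkι : k ≫ (π ⁻¹ᵁ U).ι = pullback.fst f.fromNormalization U.ι ≫ inl := IsOpenImmersion.lift_fac _ _ _
    refine ⟨k, ?_, ?_⟩
    · rw [← cancel_mono (π ⁻¹ᵁ U).ι, Category.assoc, hkι, pullback.lift_fst_assoc, hlι, Category.id_comp]
    · have h1 : k ≫ l = pullback.fst f.fromNormalization U.ι := by
        haveI : IsOpenImmersion inl := inferInstance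
        rw [← cancel_mono inl, Category.assoc, hlι, hkι]
      refine pullback.hom_ext ?_ ?_
      · rw [Category.assoc, pullback.lift_fst, h1, Category.id_comp]
      · rw [Category.assoc, pullback.lift_snd, Category.id_comp, ← cancel_mono U.ι, Category.assoc,
          ← hl, ← Category.assoc, h1, pullback.condition]
  refine ⟨asIso (pullback.lift l (π ∣_ U) hl) ≪≫ (asIso m).symm, ?_⟩
  simp only [Iso.trans_hom, Iso.symm_hom, asIso_hom, asIso_inv]
  rw [Category.assoc, ← Category.assoc (inv m), show inv m ≫ v = pullback.snd _ _ from by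
    rw [IsIso.inv_comp_eq, hm], pullback.lift_snd_assoc, morphismRestrict_ι]

/-- A morphism `π` has local sections of `g` over the preimage of `U`. -/
def HasLocalSections {X S Z : Scheme.{u}} (g : X ⟶ S) (π : Z ⟶ S) (U : S.Opens) : Prop :=
  ∀ y : Z, π y ∈ U → ∃ (V : Z.Opens) (h : (V : Scheme.{u}) ⟶ X), y ∈ V ∧ h ≫ g = V.ι ≫ π

theorem HasLocalSections.comp {X S Z Z' : Scheme.{u}} {g : X ⟶ S} {π : Z ⟶ S} {U : S.Opens}
    (H : HasLocalSections g π U) (p : Z' ⟶ Z) : HasLocalSections g (p ≫ π) U := fun y hy => by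
  obtain ⟨V, h, hyV, hh⟩ := H (p y) hy
  exact ⟨p ⁻¹ᵁ V, (p ∣_ V) ≫ h, hyV, by rw [Category.assoc, hh, morphismRestrict_ι_assoc]⟩

/-- Over an affine open there is an integral surjective morphism with local sections over that open. -/
theorem exists_integral_affine {X S : Scheme.{u}} (g : X ⟶ S) [Flat g] [LocallyOfFinitePresentation g]
    [Surjective g] [QuasiSeparatedSpace S] (U : S.affineOpens) :
    ∃ (Z : Scheme.{u}) (π : Z ⟶ S), IsIntegralHom π ∧ Surjective π ∧ HasLocalSections g π U := by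
  obtain ⟨A, φ, hfin, -, hφs, n, a, ha, hh⟩ := exists_affine_cover (I := PUnit.{1}) (fun _ => X) (fun _ => g)
    (fun _ => inferInstance) (fun _ => inferInstance) U.2 (fun t _ => ⟨⟨⟩, g.surjective t⟩)
  haveI : IsFinite (Spec.map φ) := (IsFinite.SpecMap_iff φ).2 hfin
  let v : Spec A ⟶ ((U : S.Opens) : Scheme.{u}) := Spec.map φ ≫ U.2.isoSpec.inv
  haveI : CompactSpace ((U : S.Opens) : Scheme.{u}) := isCompact_iff_compactSpace.mp U.2.isCompact
  haveI : QuasiCompact (U : S.Opens).ι := inferInstance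
  obtain ⟨Z, π, hi, hs, q₀, hq⟩ := exists_integral_extension (U : S.Opens) v
  let q := q₀.hom
  refine ⟨Z, π, hi, hs, fun y hy => ?_⟩
  obtain ⟨j, hj⟩ : ∃ j, q ⟨y, hy⟩ ∈ (PrimeSpectrum.basicOpen (a j) : TopologicalSpace.Opens _) := by
    by_contra! hx
    refine (q ⟨y, hy⟩).isPrime.ne_top (top_le_iff.1 (ha ▸ Ideal.span_le.2 ?_))
    rintro _ ⟨j, rfl⟩
    by_contra hj
    exact hx j hj
  obtain ⟨-, h, hh⟩ := hh j
  let L := Localization.Away (a j)
  let e : Spec (CommRingCat.of L) ⟶ Spec A := Spec.map (CommRingCat.ofHom (algebraMap A L))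
  haveI : IsOpenImmersion e := IsOpenImmersion.of_isLocalization (a j)
  let W : ((π ⁻¹ᵁ (U : S.Opens) : Z.Opens) : Scheme.{u}).Opens := q ⁻¹ᵁ e.opensRange
  have hW : Set.range (W.ι ≫ q) ⊆ Set.range e := by
    rintro _ ⟨w, rfl⟩
    exact w.2
  let V : Z.Opens := (π ⁻¹ᵁ (U : S.Opens)).ι ''ᵁ W
  let iV := ((π ⁻¹ᵁ (U : S.Opens)).ι.isoImage W)
  refine ⟨V, iV.inv ≫ IsOpenImmersion.lift e (W.ι ≫ q) hW ≫ h, ⟨⟨y, hy⟩, ?_, rfl⟩, ?_⟩
  · exact (PrimeSpectrum.localization_away_comap_range L (a j)).ge hj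
  · rw [Category.assoc, Category.assoc, hh, Spec.map_comp, Category.assoc]
    have hf : IsOpenImmersion.lift e (W.ι ≫ q) hW ≫ e = W.ι ≫ q := IsOpenImmersion.lift_fac _ _ _
    rw [reassoc_of% hf]
    have hv : Spec.map φ ≫ U.2.fromSpec = v ≫ (U : S.Opens).ι := (Category.assoc _ _ _).symm
    rw [hv, hq, ← Category.assoc W.ι, ← Category.assoc]
    congr 1
    rw [Iso.inv_comp_eq]
    exact (Scheme.Hom.isoImage_hom_ι _ W).symm

/-- An fppf cover of a quasi-compact quasi-separated scheme has local sections over an integral surjective cover. -/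
theorem exists_integral_cover {X S : Scheme.{u}} (g : X ⟶ S) [Flat g] [LocallyOfFinitePresentation g]
    [Surjective g] [CompactSpace S] [QuasiSeparatedSpace S] :
    ∃ (Z : Scheme.{u}) (π : Z ⟶ S), IsIntegralHom π ∧ Surjective π ∧ HasLocalSections g π ⊤ := by
  classical
  have key : ∀ s : Finset S.affineOpens, ∃ (Z : Scheme.{u}) (π : Z ⟶ S), IsIntegralHom π ∧ Surjective π ∧
      ∀ U ∈ s, HasLocalSections g π U := fun s => by
    induction s using Finset.induction with
    | empty => exact ⟨S, 𝟙 S, inferInstance, inferInstance, fun U hU => absurd hU (Finset.notMem_empty U)⟩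
    | insert U s _ ih =>
      obtain ⟨Z, π, hi, hs, H⟩ := ih
      obtain ⟨Z', π', hi', hs', H'⟩ := exists_integral_affine g U
      refine ⟨_, pullback.fst π π' ≫ π, inferInstance, inferInstance, fun U' hU' => ?_⟩
      rcases Finset.mem_insert.1 hU' with rfl | hU'
      · rw [pullback.condition]
        exact H'.comp _
      · exact (H U' hU').comp _
  obtain ⟨s, hs⟩ := (isCompact_univ (X := S)).elim_finite_subcover
    (fun U : S.affineOpens ↦ (U.1 : Set S)) (fun U ↦ U.1.isOpen) fun x _ ↦ by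
      obtain ⟨U, hU, hxU, -⟩ := exists_isAffineOpen_mem_and_subset (X := S) (x := x) (U := ⊤) trivial
      exact Set.mem_iUnion.mpr ⟨⟨U, hU⟩, hxU⟩
  obtain ⟨Z, π, hi, hsur, H⟩ := key s
  refine ⟨Z, π, hi, hsur, fun y _ => ?_⟩
  obtain ⟨U, hU, hyU⟩ := Set.mem_iUnion₂.1 (hs (Set.mem_univ (π y)))
  exact H U hU y hyU

end FinSurjLib
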