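import Groth.Agent.FinSurjLib.Qfh
import Groth.Agent.FinSurjLib.Images
import Groth.Agent.NagataFG.Closure
import Groth.Agent.DvrProperLib.Closure
import Groth.Agent.NormalExtLib.Dvr
import Mathlib

/-!
# Lifting integral closed subschemes to finite covers
-/

set_option autoImplicit false
set_option linter.style.haveILetI false

noncomputable section

universe u

open AlgebraicGeometry CategoryTheory Limits Polynomial

namespace FinSurjLib

theorem RootClosed.of_surjective {O O' : Type u} [CommRing O] [CommRing O'] (f : O →+* O')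
    (hf : Function.Surjective f) (h : RootClosed O) : RootClosed O' := by
  intro q hq hdeg
  obtain ⟨p, hp, hpd, hpm⟩ := Polynomial.lifts_and_natDegree_eq_and_monic
    ((Polynomial.lifts_iff_coeff_lifts q).2 fun n => hf (q.coeff n)) hq
  obtain ⟨a, ha⟩ := h p hpm (hpd ▸ hdeg)
  exact ⟨f a, hp ▸ ha.map⟩

theorem LocallyRootClosed.of_isClosedImmersion {G W : Scheme.{u}} (ι : G ⟶ W) [IsClosedImmersion ι]
    (h : LocallyRootClosed W) : LocallyRootClosed G := fun z => by
  obtain ⟨V, hV, hzV, hRC⟩ := h (ι z)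
  exact ⟨ι ⁻¹ᵁ V, hV.preimage ι, hzV, hRC.of_surjective (ι.app V).hom (ι.app_surjective V hV)⟩

theorem LocallyRootClosed.of_charts {Z : Scheme.{u}}
    (h : ∀ z : Z, ∃ (N : Scheme.{u}) (j : N ⟶ Z), IsOpenImmersion j ∧ LocallyRootClosed N ∧ z ∈ Set.range j) :
    LocallyRootClosed Z := fun z => by
  obtain ⟨N, j, hj, hN, n, rfl⟩ := h z
  obtain ⟨V, hV, hnV, hRC⟩ := hN n
  exact ⟨j ''ᵁ V, hV.image_of_isOpenImmersion j, ⟨n, hnV, rfl⟩,
    hRC.of_ringEquiv (j.appIso V).commRingCatIsoToRingEquiv.symm⟩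

/-- A surjective integral morphism onto an integral locally root closed scheme has a section. -/
theorem exists_section_of_isIntegralHom {P G : Scheme.{u}} [AlgebraicGeometry.IsIntegral G]
    (hG : LocallyRootClosed G) (h : P ⟶ G) [IsIntegralHom h] [Surjective h] :
    ∃ σ : G ⟶ P, σ ≫ h = 𝟙 G := by
  obtain ⟨ξ, hξ⟩ := h.surjective (genericPoint G)
  let r := (NagataFG.closureIdeal ξ).subschemeι
  haveI := NagataFG.isIntegral_closure ξ
  let h' := r ≫ h
  haveI : IsIntegralHom h' := inferInstance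
  obtain ⟨ξ', hξ'⟩ := NagataFG.mem_range ξ
  haveI : Surjective h' := ⟨fun y => by
    have hy : y ∈ closure (Set.range h') := closure_mono (Set.singleton_subset_iff.2 (show genericPoint G ∈ Set.range h' from ⟨ξ', by
      rw [Scheme.Hom.comp_apply, hξ', hξ]⟩)) ((genericPoint_spec G).specializes (Set.mem_univ y) : genericPoint G ⤳ y).mem_closure
    rwa [(h'.isClosedMap.isClosed_range).closure_eq] at hy⟩
  haveI : IsClosedImmersion h' := by
    choose V hV hyV hRC using hG
    refine (IsZariskiLocalAtTarget.iff_of_iSup_eq_top (P := @IsClosedImmersion) V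
      (top_le_iff.1 fun y _ => TopologicalSpace.Opens.mem_iSup.2 ⟨y, hyV y⟩)).2 fun y => ?_
    haveI : IsAffine (V y : Scheme.{u}) := hV y
    haveI : IsAffine (h' ⁻¹ᵁ V y : Scheme.{u}) := (hV y).preimage h'
    refine (HasAffineProperty.iff_of_isAffine (P := @IsClosedImmersion)).2 ⟨inferInstance, ?_⟩
    obtain ⟨x, hx⟩ := h'.surjective y
    haveI : Nonempty (h' ⁻¹ᵁ V y) := ⟨⟨x, show h' x ∈ V y by rw [hx]; exact hyV y⟩⟩
    haveI : Nonempty (V y) := ⟨⟨y, hyV y⟩⟩
    have hsurj : Function.Surjective (h'.app (V y)) := fun b => by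
      letI : Algebra Γ(G, V y) Γ((NagataFG.closureIdeal ξ).subscheme, h' ⁻¹ᵁ V y) := (h'.app (V y)).hom.toAlgebra
      exact mem_range_of_isIntegral (hRC y) (h'.isIntegral_app (V y) (hV y) b)
    have hsurj' : ∀ W : G.Opens, W = V y → Function.Surjective (h'.app W) := by rintro W rfl; exact hsurj
    rw [morphismRestrict_appTop]
    exact (ConcreteCategory.bijective_of_isIso ((NagataFG.closureIdeal ξ).subscheme.presheaf.map _)).2.comp
      (hsurj' _ (V y).ι_image_top)
  haveI : IsIso h' := isIso_of_isClosedImmersion_of_surjective h'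
  exact ⟨inv h' ≫ r, by rw [Category.assoc, IsIso.inv_hom_id]⟩

section

variable {I : Type u} [SmallCategory I] [IsCofiltered I] {S : Scheme.{u}} {F F' : Scheme.{u}} (i : F ⟶ S)
  (s : F' ⟶ F) (D : I ⥤ Scheme.{u}) (t : D ⟶ (Functor.const I).obj S)

/-- A point at a stage over the given closed subscheme whose closure lifts to the cover. -/
def Good (j : I) (η : D.obj j) : Prop :=
  ∃ (G : Scheme.{u}) (ι : G ⟶ D.obj j) (φ : G ⟶ F'), IsClosedImmersion ι ∧ η ∈ Set.range ι ∧
    φ ≫ s ≫ i = ι ≫ t.app j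

variable {i s D t}

omit [IsCofiltered I] in
theorem Good.of_specializes {j : I} {η η' : D.obj j} (h : Good i s D t j η) (hs : η ⤳ η') :
    Good i s D t j η' := by
  obtain ⟨G, ι, φ, hι, hη, hφ⟩ := h
  exact ⟨G, ι, φ, hι, ι.isClosedEmbedding.isClosed_range.closure_subset_iff.2 (Set.singleton_subset_iff.2 hη)
    hs.mem_closure, hφ⟩

omit [IsCofiltered I] in
theorem Good.of_map {j k : I} (a : k ⟶ j) {η : D.obj k} (h : Good i s D t j (D.map a η)) :
    Good i s D t k η := by
  obtain ⟨G, ι, φ, hι, hη, hφ⟩ := h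
  refine ⟨pullback ι (D.map a), pullback.snd ι (D.map a), pullback.fst ι (D.map a) ≫ φ, inferInstance, ?_, ?_⟩
  · rw [Scheme.Pullback.range_snd]
    exact hη
  · rw [Category.assoc, hφ, pullback.condition_assoc]
    exact congrArg (pullback.snd ι (D.map a) ≫ ·) ((t.naturality a).trans (Category.comp_id _))

end


section

variable {I : Type u} [SmallCategory I] [IsCofiltered I] {S : Scheme.{u}} [IsNoetherian S] {F F' : Scheme.{u}}
  (i : F ⟶ S) [IsClosedImmersion i] (s : F' ⟶ F) [IsFinite s] [Surjective s] (D : I ⥤ Scheme.{u})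
  (t : D ⟶ (Functor.const I).obj S)
  [∀ {i j : I} (a : i ⟶ j), IsAffineHom (D.map a)] [∀ i, CompactSpace (D.obj i)]
  [∀ i, QuasiSeparatedSpace (D.obj i)] (c : Cone D) (hc : IsLimit c) (p : c.pt ⟶ S)
  (hp : ∀ i, c.π.app i ≫ t.app i = p)

include hc hp in
/-- Over an absolutely integrally closed cover every point becomes good at some stage. -/
theorem exists_good_of_point (hZ : LocallyRootClosed c.pt) (z : c.pt) (hz : p z ∈ Set.range i) :
    ∃ j, Good i s D t j (c.π.app j z) := by
  haveI : CompactSpace c.pt := Scheme.compactSpace_of_isLimit D c hc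
  let ι := (NagataFG.closureIdeal z).subschemeι
  haveI := NagataFG.isIntegral_closure z
  haveI : CompactSpace (NagataFG.closureIdeal z).subscheme := QuasiCompact.compactSpace_of_compactSpace ι
  have hrange : Set.range ι = closure {z} := by
    show Set.range (NagataFG.closureIdeal z).subschemeι = _
    rw [Scheme.IdealSheafData.range_subschemeι, NagataFG.closureIdeal,
      Scheme.IdealSheafData.coe_support_vanishingIdeal]
    rfl
  have hsub : Set.range (ι ≫ p) ⊆ Set.range i := by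
    rintro _ ⟨x, rfl⟩
    have hx : ι x ∈ closure {z} := hrange.le ⟨x, rfl⟩
    have := (specializes_iff_mem_closure.2 hx).map p.continuous
    rw [Scheme.Hom.comp_apply]
    exact i.isClosedEmbedding.isClosed_range.closure_subset_iff.2 (Set.singleton_subset_iff.2 hz) this.mem_closure
  let l := IsClosedImmersion.lift i (ι ≫ p) (DvrProperLib.ker_le_ker_of_range_subset i (ι ≫ p) hsub)
  have hl : l ≫ i = ι ≫ p := IsClosedImmersion.lift_fac _ _ _
  obtain ⟨σ, hσ⟩ := exists_section_of_isIntegralHom (hZ.of_isClosedImmersion ι) (pullback.snd s l)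
  have hφ : (σ ≫ pullback.fst s l) ≫ s ≫ i = ι ≫ p := by
    rw [Category.assoc, pullback.condition_assoc, ← Category.assoc, hσ, Category.id_comp, hl]
  let T : imgDiagram D c ι ⟶ (Functor.const I).obj S :=
    { app := fun k ↦ imgιAt D c ι k ≫ t.app k
      naturality := fun a b e ↦ by
        show imgMapAt D c ι e ≫ imgιAt D c ι b ≫ t.app b = (imgιAt D c ι a ≫ t.app a) ≫ 𝟙 S
        refine Eq.trans ?_ (Category.comp_id _).symm
        rw [imgMapAt_ι_assoc]
        exact congrArg (imgιAt D c ι a ≫ ·) ((t.naturality e).trans (Category.comp_id _)) }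
  haveI : LocallyOfFinitePresentation (s ≫ i) :=
    LocallyOfFinitePresentation.iff_locallyOfFiniteType.mpr inferInstance
  obtain ⟨j, r, -, hr⟩ := Scheme.exists_π_app_comp_eq_of_locallyOfFinitePresentation (imgDiagram D c ι) T
    (s ≫ i) (imgCone D c ι) (isLimitImgCone D c hc ι) (σ ≫ pullback.fst s l)
    (NatTrans.ext (funext fun k ↦ by
      show (ι ≫ c.π.app k).toImage ≫ (ι ≫ c.π.app k).imageι ≫ t.app k = (σ ≫ pullback.fst s l) ≫ s ≫ i
      rw [Scheme.Hom.toImage_imageι_assoc, Category.assoc, hp, hφ]))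
  obtain ⟨x, hx⟩ := NagataFG.mem_range z
  refine ⟨j, imgAt D c ι j, imgιAt D c ι j, r, inferInstance, ⟨(ι ≫ c.π.app j).toImage x, ?_⟩, hr⟩
  rw [← Scheme.Hom.comp_apply, Scheme.Hom.toImage_imageι, Scheme.Hom.comp_apply, hx]

include hc hp in
/-- Over an absolutely integrally closed cover some stage has only good points. -/
theorem exists_good_stage (hZ : LocallyRootClosed c.pt) (hfin : ∀ j, IsFinite (t.app j))
    (hsurj : ∀ j, Function.Surjective (c.π.app j)) :
    ∃ j, ∀ η : D.obj j, t.app j η ∈ Set.range i → Good i s D t j η := by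
  classical
  have hw : ∀ {j k : I} (a : k ⟶ j) (η : D.obj k), t.app j (D.map a η) = t.app k η := fun {j k} a η => by
    rw [← Scheme.Hom.comp_apply]
    exact congrArg (fun q : D.obj k ⟶ S => q η) ((t.naturality a).trans (Category.comp_id _))
  have hcπ : ∀ j (z : c.pt), t.app j (c.π.app j z) = p z := fun j z => by
    rw [← Scheme.Hom.comp_apply, hp]
  haveI : QuasiCompact p := by
    obtain ⟨j⟩ := IsCofiltered.nonempty (C := I)
    haveI := hfin j
    haveI : IsAffineHom (c.π.app j) := isAffineHom_π_app _ _ hc _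
    rw [← hp j]
    infer_instance
  have fibre : ∀ x : S, x ∈ Set.range i → ∃ j, ∀ η : D.obj j, t.app j η = x → Good i s D t j η := by
    intro x hx
    have h1 : ∀ z : p ⁻¹' {x}, ∃ (j : I) (U : (D.obj j).Opens), c.π.app j z.1 ∈ U ∧
        ∀ η ∈ U, t.app j η = x → Good i s D t j η := fun z => by
      obtain ⟨j, hj⟩ := exists_good_of_point i s D t c hc p hp hZ z.1 (by rw [show p z.1 = x from z.2]; exact hx)
      haveI := hfin j
      haveI : DiscreteTopology ↥(t.app j ⁻¹' {x}) := (Scheme.Hom.isDiscrete_preimage_singleton (t.app j) x).to_subtype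
      obtain ⟨U, hU, hUeq⟩ := isOpen_induced_iff.1 (isOpen_discrete
        ({⟨c.π.app j z.1, (hcπ j z.1).trans z.2⟩} : Set ↥(t.app j ⁻¹' {x})))
      refine ⟨j, ⟨U, hU⟩, hUeq.ge rfl, fun η hη hηx => ?_⟩
      have : (⟨η, hηx⟩ : ↥(t.app j ⁻¹' {x})) = ⟨c.π.app j z.1, (hcπ j z.1).trans z.2⟩ := hUeq.le hη
      rw [show η = c.π.app j z.1 from congrArg Subtype.val this]
      exact hj
    choose J U hzU hU using h1
    obtain ⟨ts, hts⟩ := (p.isCompact_preimage_singleton x).elim_finite_subcover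
      (fun z : p ⁻¹' {x} => c.π.app (J z) ⁻¹' (U z : Set (D.obj (J z))))
      (fun z => (U z).2.preimage (c.π.app (J z)).continuous) (fun z hz => Set.mem_iUnion.2 ⟨⟨z, hz⟩, hzU ⟨z, hz⟩⟩)
    obtain ⟨k, hk⟩ := IsCofiltered.inf_objs_exists (ts.image J)
    refine ⟨k, fun η hη => ?_⟩
    obtain ⟨z, rfl⟩ := hsurj k η
    obtain ⟨z₀, hz₀, hz₀U⟩ := Set.mem_iUnion₂.1 (hts (show z ∈ p ⁻¹' {x} from (hcπ k z).symm.trans hη))
    obtain ⟨a⟩ := hk (Finset.mem_image_of_mem J hz₀)
    refine Good.of_map a ?_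
    rw [← Scheme.Hom.comp_apply, c.w a]
    exact hU z₀ _ hz₀U (by rw [hcπ, ← hcπ k z, hη])
  suffices key : ∀ T : TopologicalSpace.Closeds S, (T : Set S) ⊆ Set.range i →
      ∃ j, ∀ η : D.obj j, t.app j η ∈ T → Good i s D t j η from
    key ⟨Set.range i, i.isClosedEmbedding.isClosed_range⟩ subset_rfl
  intro T
  induction T using WellFoundedLT.induction with
  | _ T ih =>
  intro hT
  obtain ⟨j₀⟩ := IsCofiltered.nonempty (C := I)
  by_cases hne : (T : Set S).Nonempty
  swap
  · exact ⟨j₀, fun η hη => absurd ⟨_, hη⟩ hne⟩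
  by_cases hirr : IsPreirreducible (T : Set S)
  · obtain ⟨x, hx⟩ := QuasiSober.sober (⟨hne, hirr⟩ : IsIrreducible (T : Set S)) T.2
    obtain ⟨j, hj⟩ := fibre x (hT hx.mem)
    haveI := hfin j
    haveI : IsNoetherian (D.obj j) :=
      { toIsLocallyNoetherian := LocallyOfFiniteType.isLocallyNoetherian (Y := S) (t.app j) }
    haveI : Finite ↥(t.app j ⁻¹' {x}) := (Scheme.Hom.finite_preimage_singleton (t.app j) x).to_subtype
    let C : Set (D.obj j) := ⋃ η : ↥(t.app j ⁻¹' {x}), closure {η.1}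
    have hC : IsClosed C := isClosed_iUnion_of_finite fun _ => isClosed_closure
    let K : Set (D.obj j) := closure (Cᶜ ∩ t.app j ⁻¹' (T : Set S))
    have hTc : IsClosed (t.app j ⁻¹' (T : Set S)) := T.2.preimage (t.app j).continuous
    let T' : TopologicalSpace.Closeds S := ⟨t.app j '' K, (t.app j).isClosedMap _ isClosed_closure⟩
    have hT'T : (T' : Set S) ⊆ T := Set.image_subset_iff.2 (closure_minimal Set.inter_subset_right hTc)
    have hxT' : x ∉ T' := by
      rintro ⟨η, hη, hηx⟩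
      obtain ⟨d, hd, hdη⟩ := NormalExtLib.exists_specializes_of_mem_closure hC.isOpen_compl hTc hη
      have h2 : t.app j d ⤳ x := hηx ▸ hdη.map (t.app j).continuous
      have hdx : t.app j d = x := (h2.antisymm (hx.specializes hd.2)).eq
      exact hd.1 (Set.mem_iUnion.2 ⟨⟨d, hdx⟩, subset_closure rfl⟩)
    have hlt : T' < T := lt_of_le_of_ne hT'T fun e => hxT' (e ▸ hx.mem)
    obtain ⟨j', hj'⟩ := ih T' hlt (hT'T.trans hT)
    obtain ⟨k, hk⟩ := IsCofiltered.inf_objs_exists {j, j'}
    obtain ⟨a⟩ := hk (Finset.mem_insert_self j {j'})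
    obtain ⟨b⟩ := hk (Finset.mem_insert_of_mem (Finset.mem_singleton_self j'))
    refine ⟨k, fun η hη => ?_⟩
    by_cases hC' : D.map a η ∈ C
    · obtain ⟨η', hη'⟩ := Set.mem_iUnion.1 hC'
      exact Good.of_map a ((hj η'.1 η'.2).of_specializes (specializes_iff_mem_closure.2 hη'))
    · refine Good.of_map b (hj' _ ?_)
      rw [hw b]
      exact ⟨D.map a η, subset_closure ⟨hC', by rw [Set.mem_preimage, hw a]; exact hη⟩, hw a η⟩
  · rw [isPreirreducible_iff_isClosed_union_isClosed] at hirr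
    push_neg at hirr
    obtain ⟨A, B, hA, hB, hAB, hTA, hTB⟩ := hirr
    obtain ⟨j, hj⟩ := ih (⟨A, hA⟩ ⊓ T) (lt_of_le_of_ne inf_le_right fun e => hTA fun y hy => by
      have := e.ge hy; exact this.1) (fun y hy => hT hy.2)
    obtain ⟨j', hj'⟩ := ih (⟨B, hB⟩ ⊓ T) (lt_of_le_of_ne inf_le_right fun e => hTB fun y hy => by
      have := e.ge hy; exact this.1) (fun y hy => hT hy.2)
    obtain ⟨k, hk⟩ := IsCofiltered.inf_objs_exists {j, j'}
    obtain ⟨a⟩ := hk (Finset.mem_insert_self j {j'})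
    obtain ⟨b⟩ := hk (Finset.mem_insert_of_mem (Finset.mem_singleton_self j'))
    refine ⟨k, fun η hη => ?_⟩
    rcases hAB hη with h | h
    · exact Good.of_map a (hj _ (by rw [hw a]; exact ⟨h, hη⟩))
    · exact Good.of_map b (hj' _ (by rw [hw b]; exact ⟨h, hη⟩))

end

/-- A finite surjective cover over which every integral closed subscheme over a given closed subscheme lifts to
a given finite surjective cover of it. -/
theorem exists_finite_lift_cover {Y F F' : Scheme.{u}} [IsNoetherian Y] (i : F ⟶ Y) [IsClosedImmersion i]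
    (s : F' ⟶ F) [IsFinite s] [Surjective s] :
    ∃ (Y' : Scheme.{u}) (g : Y' ⟶ Y), IsFinite g ∧ Surjective g ∧ ∀ η : Y', g η ∈ Set.range i →
      ∃ (G : Scheme.{u}) (ι : G ⟶ Y') (φ : G ⟶ F'), IsClosedImmersion ι ∧ η ∈ Set.range ι ∧
        φ ≫ s ≫ i = ι ≫ g := by
  obtain ⟨Z, π, hπ, hs, hcov⟩ := exists_aic_cover Y
  have hZ : LocallyRootClosed Z := LocallyRootClosed.of_charts fun z => by
    obtain ⟨N, j, hj, -, hN, hz⟩ := hcov z
    exact ⟨N, j, hj, hN, hz⟩
  obtain ⟨I, _, _, D, t, c, hc, e, hfin, -, haff, hcs, hqs, hcomp⟩ := exists_finite_diagram π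
  haveI : ∀ {i j : I} (a : i ⟶ j), IsAffineHom (D.map a) := @haff
  haveI := hcs; haveI := hqs
  haveI : CompactSpace c.pt := Scheme.compactSpace_of_isLimit D c hc
  let E := imgDiagram D c (𝟙 c.pt)
  let cE := imgCone D c (𝟙 c.pt)
  let T : E ⟶ (Functor.const I).obj Y :=
    { app := fun k ↦ imgιAt D c (𝟙 c.pt) k ≫ t.app k
      naturality := fun a b f ↦ by
        show imgMapAt D c (𝟙 c.pt) f ≫ imgιAt D c (𝟙 c.pt) b ≫ t.app b = (_ ≫ t.app a) ≫ 𝟙 Y
        refine Eq.trans ?_ (Category.comp_id _).symm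
        rw [imgMapAt_ι_assoc]
        exact congrArg (imgιAt D c (𝟙 c.pt) a ≫ ·) ((t.naturality f).trans (Category.comp_id _)) }
  have hTfin : ∀ j, IsFinite (T.app j) := fun j => by
    haveI := hfin j
    haveI : IsFinite (imgιAt D c (𝟙 c.pt) j) := ((IsClosedImmersion.iff_isFinite_and_mono _).mp inferInstance).1
    show IsFinite (imgιAt D c (𝟙 c.pt) j ≫ t.app j)
    infer_instance
  let p : c.pt ⟶ Y := e.hom ≫ π
  have hp : ∀ j, cE.π.app j ≫ T.app j = p := fun j => by
    show (𝟙 c.pt ≫ c.π.app j).toImage ≫ (𝟙 c.pt ≫ c.π.app j).imageι ≫ t.app j = _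
    rw [Scheme.Hom.toImage_imageι_assoc, Category.id_comp, hcomp]
  have hsurj : ∀ j, Function.Surjective (cE.π.app j) := fun j y => by
    haveI := hfin j
    haveI : IsIntegralHom (c.π.app j ≫ t.app j) := by rw [hcomp]; infer_instance
    haveI : IsIntegralHom (c.π.app j) := IsIntegralHom.of_comp (c.π.app j) (t.app j)
    haveI : IsIntegralHom ((𝟙 c.pt ≫ c.π.app j).toImage ≫ (𝟙 c.pt ≫ c.π.app j).imageι) := by
      rw [Scheme.Hom.toImage_imageι]; infer_instance
    let q := (𝟙 c.pt ≫ c.π.app j).toImage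
    haveI : IsIntegralHom q := IsIntegralHom.of_comp q (𝟙 c.pt ≫ c.π.app j).imageι
    have : IsClosed (Set.range q) := q.isClosedMap.isClosed_range
    exact ((this.closure_eq.symm.trans q.denseRange.closure_range).ge (Set.mem_univ y) : y ∈ Set.range q)
  have hZ' : LocallyRootClosed c.pt := hZ.of_isClosedImmersion e.hom
  obtain ⟨j, hj⟩ := exists_good_stage i s E T cE (isLimitImgCone D c hc (𝟙 c.pt)) p hp hZ' hTfin hsurj
  refine ⟨E.obj j, T.app j, hTfin j, ⟨fun y => ?_⟩, hj⟩
  obtain ⟨z, hz⟩ := π.surjective y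
  refine ⟨cE.π.app j (e.inv z), ?_⟩
  calc T.app j (cE.π.app j (e.inv z)) = (cE.π.app j ≫ T.app j) (e.inv z) := rfl
    _ = p (e.inv z) := congrArg (fun q : c.pt ⟶ Y => q (e.inv z)) (hp j)
    _ = π ((e.inv ≫ e.hom) z) := rfl
    _ = y := by rw [e.inv_hom_id]; exact hz

end FinSurjLib
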