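import Groth.Agent.FinSurjLib.PiCover
import Mathlib

/-!
# Finite surjective covers of affine opens dominated by an fppf family
-/

set_option autoImplicit false
set_option linter.style.haveILetI false

noncomputable section

universe w u

open AlgebraicGeometry CategoryTheory Limits

namespace FinSurjLib

/-- A jointly surjective family of flat morphisms locally of finite presentation has, over every affine open `U`,
local sections over a finite finitely presented surjective cover `Spec A` of `U`, with finitely many basic opens. -/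
theorem exists_affine_cover {T : Scheme.{u}} {I : Type w} (X : I → Scheme.{u}) (f : ∀ i, X i ⟶ T)
    (hflat : ∀ i, Flat (f i)) (hfp : ∀ i, LocallyOfFinitePresentation (f i))
    {U : T.Opens} (hU : IsAffineOpen U) (hsurj : ∀ t ∈ U, ∃ (i : I) (x : X i), f i x = t) :
    ∃ (A : CommRingCat.{u}) (φ : Γ(T, U) ⟶ A), φ.hom.Finite ∧ φ.hom.FinitePresentation ∧
      Surjective (Spec.map φ) ∧
      ∃ (n : ℕ) (g : Fin n → A), Ideal.span (Set.range g) = ⊤ ∧
        ∀ j, ∃ (i : I) (h : Spec (CommRingCat.of (Localization.Away (g j))) ⟶ X i),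
          h ≫ f i = Spec.map (φ ≫ CommRingCat.ofHom (algebraMap A (Localization.Away (g j)))) ≫ hU.fromSpec := by
  classical
  have hW : ∀ t : U, ∃ (i : I) (W : (X i).Opens), IsAffineOpen W ∧ W ≤ f i ⁻¹ᵁ U ∧ t.1 ∈ f i '' W := by
    rintro ⟨t, ht⟩
    obtain ⟨i, x, rfl⟩ := hsurj t ht
    obtain ⟨W, hW, hxW, hWU⟩ := exists_isAffineOpen_mem_and_subset (U := f i ⁻¹ᵁ U) ht
    exact ⟨i, W, hW, hWU, x, hxW, rfl⟩
  choose i W hWa hWU htW using hW
  obtain ⟨s, hs⟩ := hU.isCompact.elim_finite_subcover (fun t : U => f (i t) '' (W t)) (fun t => by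
    haveI := hflat (i t); haveI := hfp (i t)
    exact (f (i t)).isOpenMap _ (W t).2) (fun t ht => Set.mem_iUnion.2 ⟨⟨t, ht⟩, htW _⟩)
  let B : s → CommRingCat.{u} := fun k => Γ(X (i k.1), W k.1)
  let ψ : ∀ k, Γ(T, U) ⟶ B k := fun k => (f (i k.1)).appLE U (W k.1) (hWU k.1)
  letI : ∀ k, Algebra Γ(T, U) (B k) := fun k => (ψ k).hom.toAlgebra
  haveI : ∀ k, Module.Flat Γ(T, U) (B k) := fun k => by
    haveI := hflat (i k.1)
    exact HasRingHomProperty.appLE @Flat (f (i k.1)) inferInstance ⟨U, hU⟩ ⟨_, hWa k.1⟩ (hWU k.1)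
  haveI : ∀ k, Algebra.FinitePresentation Γ(T, U) (B k) := fun k => by
    haveI := hfp (i k.1)
    exact HasRingHomProperty.appLE @LocallyOfFinitePresentation (f (i k.1)) inferInstance ⟨U, hU⟩ ⟨_, hWa k.1⟩
      (hWU k.1)
  obtain ⟨A, _, _, hAfin, hAfp, hAsurj, hA⟩ := exists_cover_pi (R := Γ(T, U)) (fun k => (B k : Type u)) (by
    intro q
    obtain ⟨k, hk, x, hx, hxq⟩ := Set.mem_iUnion₂.1 (hs (show hU.fromSpec q ∈ (U : Set T) from
      hU.range_fromSpec ▸ Set.mem_range_self q))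
    refine ⟨⟨k, hk⟩, (hWa k).primeIdealOf ⟨x, hx⟩, hU.fromSpec.isOpenEmbedding.injective ?_⟩
    calc hU.fromSpec (Spec.map (ψ ⟨k, hk⟩) ((hWa k).primeIdealOf ⟨x, hx⟩))
        = f (i k) ((hWa k).fromSpec ((hWa k).primeIdealOf ⟨x, hx⟩)) := by
          rw [← Scheme.Hom.comp_apply, ← Scheme.Hom.comp_apply, hU.SpecMap_appLE_fromSpec _ (hWa k)]
      _ = hU.fromSpec q := by rw [IsAffineOpen.fromSpec_primeIdealOf]; exact hxq)
  choose g hg k hk using hA
  obtain ⟨t, htsub, ht⟩ := (Ideal.span_eq_top_iff_finite (Set.range g)).1 (by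
    by_contra hne
    obtain ⟨M, hM, hle⟩ := Ideal.exists_le_maximal _ hne
    exact hg ⟨M, hM.isPrime⟩ (hle (Ideal.subset_span ⟨_, rfl⟩)))
  choose p hp using fun a : t => htsub a.2
  refine ⟨CommRingCat.of A, CommRingCat.ofHom (algebraMap Γ(T, U) A), RingHom.finite_algebraMap.2 hAfin,
    RingHom.finitePresentation_algebraMap.2 hAfp, ⟨hAsurj⟩, t.card, fun j => g (p (t.equivFin.symm j)), ?_, fun j => ?_⟩
  · rw [← ht]
    congr 1
    ext a
    simp only [Set.mem_range, Finset.mem_coe, hp]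
    exact ⟨fun ⟨j, hj⟩ => hj ▸ (t.equivFin.symm j).2, fun ha => ⟨t.equivFin ⟨a, ha⟩, by simp⟩⟩
  · set q := p (t.equivFin.symm j)
    obtain ⟨φ⟩ := hk q
    refine ⟨i (k q).1, Spec.map (CommRingCat.ofHom φ.toRingHom) ≫ (hWa (k q).1).fromSpec, ?_⟩
    rw [Category.assoc, ← hU.SpecMap_appLE_fromSpec (f (i (k q).1)) (hWa (k q).1) (hWU (k q).1), ← Spec.map_comp_assoc]
    congr 2
    ext1
    exact φ.comp_algebraMap.trans (IsScalarTower.algebraMap_eq _ A _)

end FinSurjLib
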