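import Groth.Agent.FinSurjLib.Affine
import Mathlib

/-!
# Finite surjective covers dominating a finite flat family
-/

set_option autoImplicit false
set_option linter.style.haveILetI false

noncomputable section

universe u

namespace FinSurjLib

/-- An algebra map out of a finite product which sends one idempotent to one factors through that factor. -/
def piProj {R L : Type u} [CommRing R] [CommRing L] [Algebra R L] {κ : Type u} [DecidableEq κ] (B : κ → Type u)
    [∀ k, CommRing (B k)] [∀ k, Algebra R (B k)] (φ : (∀ k, B k) →ₐ[R] L) (k : κ)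
    (hk : φ (Pi.single k 1) = 1) : B k →ₐ[R] L :=
  AlgHom.ofLinearMap (φ.toLinearMap.comp (LinearMap.single R B k)) hk fun x y => by
    show φ (Pi.single k (x * y)) = φ (Pi.single k x) * φ (Pi.single k y)
    rw [← map_mul, Pi.single_mul]

/-- Some standard idempotent of a finite product avoids a given prime. -/
theorem exists_single_notMem {L : Type u} [CommRing L] {κ : Type u} [Fintype κ] [DecidableEq κ] (B : κ → Type u)
    [∀ k, CommRing (B k)] {F : Type*} [FunLike F (∀ k, B k) L] [RingHomClass F (∀ k, B k) L] (φ : F)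
    (t : Ideal L) [t.IsPrime] : ∃ k, φ (Pi.single k 1) ∉ t := by
  by_contra! h
  have h1 : φ (∑ k, Pi.single k (1 : B k)) ∈ t := by
    rw [map_sum]
    exact Submodule.sum_mem _ fun k _ => h k
  have e : (∑ k, Pi.single k (1 : B k)) = (1 : ∀ k, B k) := Finset.univ_sum_single (1 : ∀ k, B k)
  rw [e, map_one] at h1
  exact ‹t.IsPrime›.ne_top ((Ideal.eq_top_iff_one t).2 h1)

/-- Near every prime, an algebra map from a finite product to a localisation factors through one factor. -/
theorem exists_away_factor {R A : Type u} [CommRing R] [CommRing A] [Algebra R A] {κ : Type u} [Finite κ]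
    (B : κ → Type u) [∀ k, CommRing (B k)] [∀ k, Algebra R (B k)] (f : A)
    (φ : (∀ k, B k) →ₐ[R] Localization.Away f) (t : Ideal A) [t.IsPrime] (hf : f ∉ t) :
    ∃ g ∉ t, ∃ k, Nonempty (B k →ₐ[R] Localization.Away g) := by
  classical
  haveI := Fintype.ofFinite κ
  have hd : Disjoint (Submonoid.powers f : Set A) ↑t :=
    (Ideal.disjoint_powers_iff_notMem (I := t) f (Ideal.IsPrime.isRadical ‹_›)).2 hf
  haveI := IsLocalization.isPrime_of_isPrime_disjoint (Submonoid.powers f) (Localization.Away f) t ‹_› hd
  obtain ⟨k, hk⟩ := exists_single_notMem B φ (t.map (algebraMap A (Localization.Away f)))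
  obtain ⟨⟨a, ⟨_, n, rfl⟩⟩, ha⟩ := IsLocalization.surj (Submonoid.powers f) (φ (Pi.single k 1))
  dsimp only at ha
  have hat : a ∉ t := fun h => hk (((Ideal.unit_mul_mem_iff_mem _
    (IsLocalization.map_units (Localization.Away f) (⟨f ^ n, n, rfl⟩ : Submonoid.powers f))).1 (by
      rw [mul_comm, ha]
      exact Ideal.mem_map_of_mem _ h)))
  refine ⟨f * a, fun h => (Ideal.IsPrime.mem_or_mem ‹_› h).elim hf hat, k, ?_⟩
  let L := Localization.Away (f * a)
  have hu : IsUnit (algebraMap A L f) := isUnit_of_dvd_unit (map_dvd _ (Dvd.intro a rfl))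
    (IsLocalization.Away.algebraMap_isUnit (f * a))
  have hua : IsUnit (algebraMap A L a) := isUnit_of_dvd_unit (map_dvd _ (Dvd.intro_left f rfl))
    (IsLocalization.Away.algebraMap_isUnit (f * a))
  let j : Localization.Away f →ₐ[A] L := IsLocalization.liftAlgHom (M := Submonoid.powers f)
    (f := Algebra.ofId A L) (fun y => by
      obtain ⟨_, m, rfl⟩ := y
      rw [map_pow]
      exact hu.pow m)
  let ψ := (j.restrictScalars R).comp φ
  refine ⟨piProj B ψ k ?_⟩
  have he : IsUnit (ψ (Pi.single k 1)) := by
    have := congrArg j ha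
    rw [map_mul, j.commutes, j.commutes] at this
    exact isUnit_of_dvd_unit (Dvd.intro _ this) hua
  have hidem : ψ (Pi.single k 1) * ψ (Pi.single k 1) = ψ (Pi.single k 1) * 1 := by
    rw [← map_mul, ← Pi.single_mul, mul_one, mul_one]
  exact he.mul_left_cancel hidem

/-- A jointly surjective finite family of flat finitely presented algebras has local sections over a single finite
surjective algebra of finite presentation. -/
theorem exists_cover_pi {R : Type u} [CommRing R] {κ : Type u} [Finite κ] (B : κ → Type u) [∀ k, CommRing (B k)]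
    [∀ k, Algebra R (B k)] [∀ k, Algebra.FinitePresentation R (B k)] [∀ k, Module.Flat R (B k)]
    (hB : ∀ q : PrimeSpectrum R, ∃ k, q ∈ Set.range (PrimeSpectrum.comap (algebraMap R (B k)))) :
    ∃ (A : Type u) (_ : CommRing A) (_ : Algebra R A), Module.Finite R A ∧ Algebra.FinitePresentation R A ∧
      Function.Surjective (PrimeSpectrum.comap (algebraMap R A)) ∧
      ∀ t : PrimeSpectrum A, ∃ g ∉ t.asIdeal, ∃ k, Nonempty (B k →ₐ[R] Localization.Away g) := by
  classical
  haveI := Fintype.ofFinite κ
  haveI : Module.Flat R (∀ k, B k) := Module.Flat.of_linearEquiv (DirectSum.linearEquivFunOnFintype R κ B).symm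
  haveI : Module.FaithfullyFlat R (∀ k, B k) := Module.FaithfullyFlat.of_comap_surjective fun q => by
    obtain ⟨k, P, hP⟩ := hB q
    exact ⟨PrimeSpectrum.comap (Pi.evalRingHom B k) P, by rw [← hP]; rfl⟩
  obtain ⟨ι, _, A, _, _, hAfin, hAfp, hAsurj, hA⟩ := exists_cover (R := R) (B := ∀ k, B k)
  haveI := Fintype.ofFinite ι
  refine ⟨∀ i, A i, inferInstance, inferInstance, Module.Finite.pi, inferInstance, fun q => ?_, fun t => ?_⟩
  · obtain ⟨i, P, hP⟩ := hAsurj q
    exact ⟨PrimeSpectrum.comap (Pi.evalRingHom A i) P, by rw [← hP]; rfl⟩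
  obtain ⟨⟨i, P⟩, rfl⟩ := (PrimeSpectrum.sigmaToPi_bijective A).surjective t
  obtain ⟨f, hf, ⟨φ⟩⟩ := hA i P
  let f' : ∀ i, A i := Pi.single i f
  let L := Localization.Away f'
  have hi : algebraMap (∀ i, A i) L (Pi.single i 1) = 1 := by
    refine (IsLocalization.Away.algebraMap_isUnit f' : IsUnit (algebraMap _ L f')).mul_right_cancel ?_
    rw [← map_mul, ← Pi.single_mul, one_mul, one_mul]
  let π := piProj A (IsScalarTower.toAlgHom R (∀ i, A i) L) i hi
  have hπ : π f = algebraMap _ L f' := rfl
  let j : Localization.Away f →ₐ[R] L := IsLocalization.liftAlgHom (M := Submonoid.powers f) (f := π) (fun y => by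
    obtain ⟨_, m, rfl⟩ := y
    rw [map_pow, hπ]
    exact (IsLocalization.Away.algebraMap_isUnit f' : IsUnit (algebraMap _ L f')).pow m)
  refine exists_away_factor B f' (j.comp φ) _ ?_
  show f' i ∉ P.asIdeal
  rwa [show f' i = f from Pi.single_eq_same i f]

end FinSurjLib
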