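import Groth.Agent.FinSurjLib.Aic
import Groth.Agent.FinSurjLib.Extend
import Mathlib

/-!
# Finite surjective covers dominated by quasi-finite subtrusive morphisms
-/

set_option autoImplicit false
set_option linter.style.haveILetI false

noncomputable section

universe u

open AlgebraicGeometry CategoryTheory Limits

namespace FinSurjLib

/-- A quasi-finite morphism onto a Noetherian scheme which lifts specializations universally has local sections
over an integral surjective cover. -/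
theorem exists_integral_sections_of_subtrusive {X Y : Scheme.{u}} [IsNoetherian Y] (g : X ⟶ Y)
    [LocallyOfFiniteType g] [LocallyQuasiFinite g] (hg : Subtr.UnivSSubtrusive g) :
    ∃ (Z : Scheme.{u}) (π : Z ⟶ Y), IsIntegralHom π ∧ Surjective π ∧ HasLocalSections g π ⊤ := by
  obtain ⟨Z, π, hπ, hs, hcov⟩ := exists_aic_cover Y
  refine ⟨Z, π, hπ, hs, fun z _ => ?_⟩
  obtain ⟨N, j, hj, hN, hRC, n, rfl⟩ := hcov z
  haveI := hj; haveI := hN
  let h := pullback.fst (j ≫ π) g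
  have hsub : Subtr.IsSSubtrusive h := hg _ _ _ (IsPullback.of_hasPullback (j ≫ π) g)
  obtain ⟨y, ξ, hyξ, hy, hξ⟩ := hsub ((genericPoint_spec N).specializes trivial : genericPoint N ⤳ n)
  obtain ⟨V, σ, hV, hσ⟩ := exists_local_section hRC h hyξ hξ
  rw [hy] at hV
  refine ⟨j ''ᵁ V, (j.isoImage V).inv ≫ σ ≫ pullback.snd (j ≫ π) g, ⟨n, hV, rfl⟩, ?_⟩
  rw [Category.assoc, Category.assoc, ← pullback.condition, ← Category.assoc σ, hσ, Iso.inv_comp_eq,
    Scheme.Hom.isoImage_hom_ι_assoc]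

/-- Local sections over an integral cover descend to a finite cover of finite presentation. -/
theorem exists_finite_sections {X S Z : Scheme.{u}} (g : X ⟶ S) [LocallyOfFinitePresentation g] [CompactSpace S]
    [QuasiSeparatedSpace S] (π : Z ⟶ S) [IsIntegralHom π] [Surjective π] (H : HasLocalSections g π ⊤) :
    ∃ (S' : Scheme.{u}) (p : S' ⟶ S), Surjective p ∧ IsFinite p ∧ LocallyOfFinitePresentation p ∧
      HasLocalSections g p ⊤ := by
  obtain ⟨I, _, _, D, t, c, hc, e, hfin, hfp, haff, hcs, hqs, hcomp⟩ := exists_finite_diagram π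
  haveI : ∀ {i j : I} (a : i ⟶ j), IsAffineHom (D.map a) := @haff
  haveI := hcs; haveI := hqs
  obtain ⟨i, hi⟩ := exists_stage_sections g D t c hc (e.hom ≫ π) hcomp (H.comp e.hom)
  refine ⟨D.obj i, t.app i, ⟨fun s => ?_⟩, hfin i, hfp i, hi⟩
  obtain ⟨z, hz⟩ := π.surjective s
  refine ⟨c.π.app i (e.inv z), ?_⟩
  calc _ = (c.π.app i ≫ t.app i) (e.inv z) := rfl
    _ = (e.inv ≫ e.hom ≫ π) z := by rw [hcomp i]; rfl
    _ = s := by rw [Iso.inv_hom_id_assoc]; exact hz

/-- Local sections of a disjoint union give local sections of some member. -/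
theorem exists_affine_refinement {S S' : Scheme.{u}} {J : Type u} (X : J → Scheme.{u}) (f : ∀ j, X j ⟶ S)
    (p : S' ⟶ S) [CompactSpace S'] (H : HasLocalSections (Sigma.desc f) p ⊤) :
    ∃ (n : ℕ) (V : Fin n → S'.Opens), (∀ i, IsAffineOpen (V i)) ∧ ⨆ i, V i = ⊤ ∧
      ∀ i, ∃ (j : J) (h : ((V i : S'.Opens) : Scheme.{u}) ⟶ X j), h ≫ f j = (V i).ι ≫ p := by
  classical
  have key : ∀ y : S', ∃ V : S'.Opens, IsAffineOpen V ∧ y ∈ V ∧
      ∃ (j : J) (h : (V : Scheme.{u}) ⟶ X j), h ≫ f j = V.ι ≫ p := fun y => by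
    obtain ⟨W, k, hyW, hk⟩ := H y trivial
    obtain ⟨j, x, hx⟩ := (sigmaOpenCover X).exists_eq (k ⟨y, hyW⟩)
    let W' : S'.Opens := W.ι ''ᵁ (k ⁻¹ᵁ (Sigma.ι X j).opensRange)
    have hyW' : y ∈ W' := ⟨⟨y, hyW⟩, ⟨x, hx⟩, rfl⟩
    obtain ⟨V, hV, hyV, hle⟩ := exists_isAffineOpen_mem_and_subset (U := W') hyW'
    have hle' : V ≤ W := fun v hv => by
      obtain ⟨w, -, rfl⟩ := hle hv
      exact w.2
    have hr : Set.range (S'.homOfLE hle' ≫ k) ⊆ Set.range (Sigma.ι X j) := by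
      rintro _ ⟨v, rfl⟩
      obtain ⟨w, hw, hwv⟩ := hle v.2
      obtain rfl : w = S'.homOfLE hle' v := Subtype.ext (hwv.trans (Scheme.homOfLE_apply hle' v).symm)
      exact hw
    refine ⟨V, hV, hyV, j, IsOpenImmersion.lift (Sigma.ι X j) (S'.homOfLE hle' ≫ k) hr, ?_⟩
    rw [← Sigma.ι_desc f j, IsOpenImmersion.lift_fac_assoc, Category.assoc, hk, Scheme.homOfLE_ι_assoc]
  choose V hVa hyV j h hh using key
  obtain ⟨s, hs⟩ := (isCompact_univ (X := S')).elim_finite_subcover (fun y => (V y : Set S')) (fun y => (V y).2)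
    (fun y _ => Set.mem_iUnion.2 ⟨y, hyV y⟩)
  refine ⟨s.card, fun i => V (s.equivFin.symm i).1, fun i => hVa _, top_le_iff.1 fun y _ => ?_,
    fun i => ⟨_, h _, hh _⟩⟩
  obtain ⟨z, hz, hyz⟩ := Set.mem_iUnion₂.1 (hs (Set.mem_univ y))
  refine TopologicalSpace.Opens.mem_iSup.2 ⟨s.equivFin ⟨z, hz⟩, ?_⟩
  show y ∈ V (s.equivFin.symm (s.equivFin ⟨z, hz⟩)).1
  rw [Equiv.symm_apply_apply]
  exact hyz

end FinSurjLib
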